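import Mathlib
import Cfsg.Agent.H940.MaxCls
import Cfsg.Agent.SporadicStructure.M23Index253
import Cfsg.Agent.SporadicA.Steiner24Frame
import Cfsg.Agent.SporadicA.MathieuRecog
import Cfsg.Agent.S0363
import Cfsg.Agent.S0366
import Cfsg.Agent.S0367
import Cfsg.Prelude.Def_Spor_Mathieu
import Cfsg.Agent.S1604
import Cfsg.Agent.S1605
import Cfsg.Agent.S1638
import Cfsg.Agent.S0360
import Cfsg.Agent.SporadicA.GolayBase
import Cfsg.Agent.S0358
import Cfsg.Agent.S0361
import Cfsg.Agent.J4Type.Aut22
import Cfsg.Agent.H334.Ore.M22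
import Cfsg.Agent.SporadicA.OctadFix
import Cfsg.Agent.FastGrp
import Cfsg.Agent.Prune
set_option linter.all false

section
prune_inst 0x7f00000000000000000000000000000000000000000000000000000000000000000000000000000000000000000000000000000000000000000000000000000000000000000000000000000000000000003fffffffffffffffffffffffffffbeffbdffbfffff

section
prune_inst 0xfffefbbbfcbddfffff7e7ffffddffffdfcffffefdffbfbfffdffffffffebeffbf5fbafffefdbffeef6f2be3afc7bd3fdfeaffcabb9dc7ffffd5ff45ffffd9f9f6fbd3c71ffbefe1ffd6ffffbf077ee7f000000000000000000000000000041004000000000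

-- part: H867/Max/MTwentyTwo
section
prune_inst 0x444014000000000000000000002020000102004000002000000000000040800000000000011010c01c000000c02004003444600000000a008200002002080428000000000000210000409081180c00000000000000000000000000000000000400000
set_option linter.all false
open scoped Cfsg.Agent.FastGrp

-- part: H867/Max/Sub
section
/-!
# Maximality of a stabiliser from the sizes of its orbits
-/

set_option autoImplicit false

namespace Cfsg.Agent.H867.Max.Sub

open MulAction Cfsg.Agent.H940.MaxCls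

open scoped Classical in
theorem count {X : Type*} (o : X) (O B : Set X) (hfin : O.Finite) (hB : B ⊆ O) (t : X → ℕ) :
    ∀ (L : List (ℕ × ℕ)), (L.map Prod.fst).Nodup →
      (∀ e ∈ L, {x | x ∈ O ∧ x ≠ o ∧ t x = e.1}.ncard = e.2) →
      (∀ e ∈ L, (∀ x ∈ O, x ≠ o → t x = e.1 → x ∈ B) ∨ (∀ x ∈ B, x ≠ o → t x ≠ e.1)) →
      {x | x ∈ B ∧ x ≠ o ∧ t x ∈ L.map Prod.fst}.ncard =
        ((L.filter fun e => decide (∀ x ∈ O, x ≠ o → t x = e.1 → x ∈ B)).map Prod.snd).sum := by
  intro L
  induction L with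
  | nil =>
    intro _ _ _
    simp only [_root_.ne_eq, _root_.List.map_nil, _root_.List.not_mem_nil, _root_.and_false, _root_.Set.ofPred_false, _root_.Set.ncard_empty, _root_.List.filter_nil, _root_.List.sum_nil]
  | cons e L ih =>
    intro hnd hL hd
    have hBf : B.Finite := hfin.subset hB
    rw [List.map_cons, List.nodup_cons] at hnd
    have ih' := ih hnd.2 (fun e' he' => hL e' (List.mem_cons_of_mem _ he'))
      (fun e' he' => hd e' (List.mem_cons_of_mem _ he'))
    have hU : {x | x ∈ B ∧ x ≠ o ∧ t x ∈ (e :: L).map Prod.fst} =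
        {x | x ∈ B ∧ x ≠ o ∧ t x = e.1} ∪ {x | x ∈ B ∧ x ≠ o ∧ t x ∈ L.map Prod.fst} := by
      ext x
      simp only [List.map_cons, List.mem_cons, Set.mem_setOf_eq, Set.mem_union]
      (clear * -; tauto)
    have hdis : Disjoint {x | x ∈ B ∧ x ≠ o ∧ t x = e.1} {x | x ∈ B ∧ x ≠ o ∧ t x ∈ L.map Prod.fst} := by
      rw [Set.disjoint_left]
      rintro x ⟨_, _, h1⟩ ⟨_, _, h2⟩
      rw [h1] at h2
      exact hnd.1 h2
    rw [hU, Set.ncard_union_eq hdis (hBf.subset fun x hx => hx.1) (hBf.subset fun x hx => hx.1), ih']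
    by_cases hP : ∀ x ∈ O, x ≠ o → t x = e.1 → x ∈ B
    · rw [List.filter_cons_of_pos (by simpa only [_root_.ne_eq, _root_.decide_eq_true_eq] using hP), List.map_cons, List.sum_cons]
      congr 1
      rw [← hL e List.mem_cons_self]
      congr 1
      ext x
      exact ⟨fun h => ⟨hB h.1, h.2⟩, fun h => ⟨hP x h.1 h.2.1 h.2.2, h.2⟩⟩
    · rw [List.filter_cons_of_neg (by simpa only [_root_.ne_eq, _root_.decide_eq_true_eq, _root_.Classical.not_forall, _root_.Classical.not_imp] using hP)]
      have h0 : {x | x ∈ B ∧ x ≠ o ∧ t x = e.1} = ∅ := by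
        ext x
        simp only [Set.mem_setOf_eq, Set.mem_empty_iff_false, iff_false]
        rintro ⟨h1, h2, h3⟩
        exact ((hd e List.mem_cons_self).resolve_left hP) x h1 h2 h3
      rw [h0, Set.ncard_empty, zero_add]

variable {G X : Type*} [Group G] [Finite G] [MulAction G X]

/-- the orbit of `o` under an overgroup of its stabiliser -/
theorem orbit_size {o : X} {O : Set X} (hfin : O.Finite) {t : X → ℕ} {L : List (ℕ × ℕ)}
    (hO : ∀ g : G, g • o ∈ O) (ht : ∀ x ∈ O, x ≠ o → t x ∈ L.map Prod.fst)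
    (hnd : (L.map Prod.fst).Nodup) (hL : ∀ e ∈ L, {x | x ∈ O ∧ x ≠ o ∧ t x = e.1}.ncard = e.2)
    (htr : ∀ x ∈ O, ∀ y ∈ O, x ≠ o → y ≠ o → t x = t y → ∃ g : G, g • o = o ∧ g • x = y)
    {K : Subgroup G} (hK : stabilizer G o ≤ K) :
    ∃ L' ∈ L.sublists, (orbit K o).ncard = 1 + (L'.map Prod.snd).sum := by
  classical
  have hB : orbit K o ⊆ O := by
    rintro _ ⟨k, rfl⟩
    exact hO k
  refine ⟨L.filter fun e => decide (∀ x ∈ O, x ≠ o → t x = e.1 → x ∈ orbit K o),
    List.mem_sublists.2 List.filter_sublist, ?_⟩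
  rw [← count o O (orbit K o) hfin hB t L hnd hL ?_]
  · have h1 : orbit K o = insert o {x | x ∈ orbit K o ∧ x ≠ o ∧ t x ∈ L.map Prod.fst} := by
      ext x
      rw [Set.mem_insert_iff]
      constructor
      · intro hx
        by_cases hxo : x = o
        · exact Or.inl hxo
        · exact Or.inr ⟨hx, hxo, ht x (hB hx) hxo⟩
      · rintro (rfl | hx)
        · exact mem_orbit_self x
        · exact hx.1
    conv_lhs => rw [h1]
    rw [Set.ncard_insert_of_notMem (fun h => h.2.1 rfl) ((hfin.subset hB).subset fun x hx => hx.1),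
      add_comm]
  · intro e _
    by_cases h : ∃ x ∈ orbit K o, x ≠ o ∧ t x = e.1
    · left
      obtain ⟨x, hx, hxo, hxt⟩ := h
      intro y hy hyo hyt
      obtain ⟨g, hg1, hg2⟩ := htr x (hB hx) y hy hxo hyo (hxt.trans hyt.symm)
      obtain ⟨k, rfl⟩ := hx
      refine ⟨⟨g, hK (mem_stabilizer_iff.2 hg1)⟩ * k, ?_⟩
      rw [← hg2]
      exact mul_smul _ _ _
    · right
      intro x hx hxo hxt
      exact h ⟨x, hx, hxo, hxt⟩

theorem relIndex_eq {o : X} (K : Subgroup G) :
    (stabilizer G o).relIndex K = (orbit K o).ncard := by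
  rw [← index_stabilizer]
  rfl

/-- **Maximality from the suborbit sizes.** -/
theorem coatom_of_classes {o : X} {O : Set X} (hfin : O.Finite) {t : X → ℕ} {L : List (ℕ × ℕ)} {n : ℕ}
    (hn : Nat.card G = n) (hO : ∀ g : G, g • o ∈ O) (ht : ∀ x ∈ O, x ≠ o → t x ∈ L.map Prod.fst)
    (hnd : (L.map Prod.fst).Nodup) (hL : ∀ e ∈ L, {x | x ∈ O ∧ x ≠ o ∧ t x = e.1}.ncard = e.2)
    (htr : ∀ x ∈ O, ∀ y ∈ O, x ≠ o → y ≠ o → t x = t y → ∃ g : G, g • o = o ∧ g • x = y)
    (hne : ∃ g : G, g • o ≠ o)
    (hc : ∀ L' ∈ L.sublists, (1 + (L'.map Prod.snd).sum) ∣ n → L' = [] ∨ L' = L) :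
    IsCoatom (stabilizer G o) ∧ (stabilizer G o).index = 1 + (L.map Prod.snd).sum := by
  have key : ∀ K : Subgroup G, stabilizer G o ≤ K → (∃ k ∈ K, k • o ≠ o) →
      (stabilizer G o).relIndex K = 1 + (L.map Prod.snd).sum := by
    intro K hK ⟨k, hkK, hk⟩
    obtain ⟨L', hL', h1⟩ := orbit_size hfin hO ht hnd hL htr hK
    have h2 : (orbit K o).ncard ∣ n := by
      rw [← relIndex_eq, ← hn]
      exact (Subgroup.index_dvd_card _).trans (Subgroup.card_subgroup_dvd_card K)
    rw [h1] at h2
    rcases hc L' hL' h2 with rfl | rfl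
    · exfalso
      rw [List.map_nil, List.sum_nil, add_zero, Set.ncard_eq_one] at h1
      obtain ⟨a, ha⟩ := h1
      have h3 : o ∈ orbit K o := mem_orbit_self o
      have h4 : k • o ∈ orbit K o := ⟨⟨k, hkK⟩, rfl⟩
      rw [ha, Set.mem_singleton_iff] at h3 h4
      exact hk (h4.trans h3.symm)
    · rw [relIndex_eq, h1]
  have hidx : (stabilizer G o).index = 1 + (L.map Prod.snd).sum := by
    obtain ⟨g, hg⟩ := hne
    rw [← Subgroup.relIndex_top_right]
    exact key ⊤ le_top ⟨g, Subgroup.mem_top g, hg⟩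
  refine ⟨⟨?_, ?_⟩, hidx⟩
  · intro h
    obtain ⟨g, hg⟩ := hne
    have : g ∈ stabilizer G o := by rw [h]; exact Subgroup.mem_top g
    exact hg this
  · intro K hK
    obtain ⟨k, hkK, hk⟩ := SetLike.exists_of_lt hK
    have h1 := key K hK.le ⟨k, hkK, fun h => hk h⟩
    have h2 := Subgroup.relIndex_mul_index hK.le
    rw [h1, hidx] at h2
    rw [← Subgroup.index_eq_one]
    exact Nat.eq_of_mul_eq_mul_left (show 0 < 1 + (L.map Prod.snd).sum by omega)
      (h2.trans (mul_one _).symm)

/-- maximal subgroups of different index are apart -/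
theorem apart_of_index {A B : Subgroup G} {a b : ℕ}
    (hA : IsCoatom A) (hB : IsCoatom B) (ha : A.index = a) (hb : B.index = b) (h : a ≠ b) :
    Apart A B := by
  refine apart_of_coatoms hA hB fun hc => h ?_
  have h1 := A.card_mul_index
  have h2 := B.card_mul_index
  rw [hc, ← h2] at h1
  rw [← ha, ← hb]
  exact Nat.eq_of_mul_eq_mul_left Nat.card_pos h1

/-- a maximal subgroup is apart from a subgroup whose order does not divide its order -/
theorem apart_of_card {A B : Subgroup G} {n i r : ℕ} (hn : Nat.card G = n) (hA : IsCoatom A)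
    (hi : A.index = i) (hr : Nat.card B = r) (h : ¬ (r * i ∣ n)) : Apart A B := by
  intro g K h1 h2
  by_contra hK
  have hKA : A = K := by
    rcases eq_or_lt_of_le h1 with h3 | h3
    · exact h3
    · exact absurd (hA.2 K h3) hK
  apply h
  have h3 : Nat.card B ∣ Nat.card A := by
    rw [hKA, ← card_map_conj g B]
    exact Subgroup.card_dvd_of_le (map_conj_le h2)
  rw [← hn, ← A.card_mul_index, hi, ← hr]
  exact Nat.mul_dvd_mul_right h3 i

end Cfsg.Agent.H867.Max.Sub
end

-- part: H867/Max/Oct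
section
/-!
# Octads, elements of `M23` and `M22` with given values
-/

set_option autoImplicit false

open scoped Pointwise

namespace Cfsg.Agent.H867.Max.Oct

open Cfsg MulAction
open Cfsg.Agent.SporadicStructure.M23Index253 (exists_map)

theorem card8 {o : Finset GolayPt} (ho : o ∈ octads) : o.card = 8 := Cfsg.Agent.S0363.result.1 o ho

theorem inter_octad {o x : Finset GolayPt} (ho : o ∈ octads) (hx : x ∈ octads) (hne : x ≠ o) :
    (o ∩ x).card = 0 ∨ (o ∩ x).card = 2 ∨ (o ∩ x).card = 4 := by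
  have h := Cfsg.Agent.SporadicA.Steiner24Basic.inter_card (α := GolayPt) (by decide)
    Cfsg.Agent.S0363.result ho hx (Ne.symm hne)
  tauto

theorem smul_octad {g : Equiv.Perm GolayPt} (hg : g ∈ M24) {o : Finset GolayPt} (ho : o ∈ octads) :
    g • o ∈ octads :=
  Cfsg.Agent.S0367.smul_mem_octads ⟨g, hg⟩ o ho

theorem mem_smul_of_fix {g : Equiv.Perm GolayPt} {a : GolayPt} (h : g a = a) {o : Finset GolayPt} :
    a ∈ g • o ↔ a ∈ o := by
  rw [Finset.mem_smul_finset]
  constructor
  · rintro ⟨b, hb, hba⟩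
    have h1 : g b = g a := hba.trans h.symm
    rwa [g.injective h1] at hb
  · intro ha
    exact ⟨a, ha, h⟩

theorem mem_smul_map {g : Equiv.Perm GolayPt} {a b : GolayPt} (h : g a = b) {o : Finset GolayPt} :
    b ∈ g • o ↔ a ∈ o := by
  rw [Finset.mem_smul_finset]
  constructor
  · rintro ⟨c, hc, hcb⟩
    have h1 : g c = g a := hcb.trans h.symm
    rwa [g.injective h1] at hc
  · intro ha
    exact ⟨a, ha, h⟩

/-- three points -/
theorem map3 {a b c a' b' c' : GolayPt} (hab : a ≠ b) (hac : a ≠ c) (hbc : b ≠ c)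
    (hab' : a' ≠ b') (hac' : a' ≠ c') (hbc' : b' ≠ c') :
    ∃ g : Equiv.Perm GolayPt, g ∈ M24 ∧ g a = a' ∧ g b = b' ∧ g c = c' := by
  obtain ⟨g, hg⟩ := exists_map Cfsg.Agent.S0366.result (by norm_num : 3 ≤ 5) ![a, b, c] ![a', b', c']
    (by
      intro i j; (revert i j; simp only [hab, hac, hbc, hab.symm, hac.symm, hbc.symm, _root_.Fin.forall_fin_succ, Fin.isValue, _root_.Matrix.cons_val_zero, _root_.Matrix.cons_val_succ, _root_.Fin.succ_zero_eq_one, _root_.Matrix.cons_val_fin_one, _root_.Fin.succ_one_eq_two, _root_.IsEmpty.forall_iff, _root_.and_true, _root_.imp_self, _root_.zero_ne_one, Fin.reduceEq, _root_.and_self, _root_.Fin.succ_ne_zero, _root_.imp_false, _root_.not_false_eq_true, _root_.forall_const, _root_.true_and]))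
    (by
      intro i j; (revert i j; simp only [hab', hac', hbc', hab'.symm, hac'.symm, hbc'.symm, _root_.Fin.forall_fin_succ, Fin.isValue, _root_.Matrix.cons_val_zero, _root_.Matrix.cons_val_succ, _root_.Fin.succ_zero_eq_one, _root_.Matrix.cons_val_fin_one, _root_.Fin.succ_one_eq_two, _root_.IsEmpty.forall_iff, _root_.and_true, _root_.imp_self, _root_.zero_ne_one, Fin.reduceEq, _root_.and_self, _root_.Fin.succ_ne_zero, _root_.imp_false, _root_.not_false_eq_true, _root_.forall_const, _root_.true_and]))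
  exact ⟨g, g.2, hg 0, hg 1, hg 2⟩

/-- four points -/
theorem map4 {a b c d a' b' c' d' : GolayPt} (hab : a ≠ b) (hac : a ≠ c) (had : a ≠ d) (hbc : b ≠ c)
    (hbd : b ≠ d) (hcd : c ≠ d) (hab' : a' ≠ b') (hac' : a' ≠ c') (had' : a' ≠ d') (hbc' : b' ≠ c')
    (hbd' : b' ≠ d') (hcd' : c' ≠ d') :
    ∃ g : Equiv.Perm GolayPt, g ∈ M24 ∧ g a = a' ∧ g b = b' ∧ g c = c' ∧ g d = d' := by
  obtain ⟨g, hg⟩ := exists_map Cfsg.Agent.S0366.result (by norm_num : 4 ≤ 5) ![a, b, c, d]
    ![a', b', c', d']
    (by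
      intro i j; (revert i j; simp only [hab, hac, had, hbc, hbd, hcd, hab.symm, hac.symm, had.symm, hbc.symm, hbd.symm, hcd.symm, _root_.Fin.forall_fin_succ, Fin.isValue, _root_.Matrix.cons_val_zero, _root_.Matrix.cons_val_succ, _root_.Fin.succ_zero_eq_one, _root_.Fin.succ_one_eq_two, _root_.Matrix.cons_val_fin_one, Fin.reduceSucc, _root_.IsEmpty.forall_iff, _root_.and_true, _root_.imp_self, _root_.zero_ne_one, Fin.reduceEq, _root_.and_self, _root_.Fin.succ_ne_zero, _root_.imp_false, _root_.not_false_eq_true, _root_.forall_const, _root_.true_and]))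
    (by
      intro i j; (revert i j; simp only [hab', hac', had', hbc', hbd', hcd', hab'.symm, hac'.symm, had'.symm, hbc'.symm, hbd'.symm, hcd'.symm, _root_.Fin.forall_fin_succ, Fin.isValue, _root_.Matrix.cons_val_zero, _root_.Matrix.cons_val_succ, _root_.Fin.succ_zero_eq_one, _root_.Fin.succ_one_eq_two, _root_.Matrix.cons_val_fin_one, Fin.reduceSucc, _root_.IsEmpty.forall_iff, _root_.and_true, _root_.imp_self, _root_.zero_ne_one, Fin.reduceEq, _root_.and_self, _root_.Fin.succ_ne_zero, _root_.imp_false, _root_.not_false_eq_true, _root_.forall_const, _root_.true_and]))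
  exact ⟨g, g.2, hg 0, hg 1, hg 2, hg 3⟩

/-- elements of `M23` -/
def mk23 (g : Equiv.Perm GolayPt) (hg : g ∈ M24) (h : g none = none) : Spor.M23 :=
  ⟨g, Subgroup.mem_inf.2 ⟨hg, mem_stabilizer_iff.2 h⟩⟩

theorem M24_of_23 (g : Spor.M23) : (g : Equiv.Perm GolayPt) ∈ M24 := (Subgroup.mem_inf.1 g.2).1

theorem none_of_23 (g : Spor.M23) : (g : Equiv.Perm GolayPt) none = none :=
  mem_stabilizer_iff.1 (Subgroup.mem_inf.1 g.2).2

/-- elements of `M22` -/
def mk22 (g : Equiv.Perm GolayPt) (hg : g ∈ M24) (h : g none = none) (h0 : g (some 0) = some 0) : Spor.M22 :=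
  ⟨g, Subgroup.mem_inf.2 ⟨Subgroup.mem_inf.2 ⟨hg, mem_stabilizer_iff.2 h⟩, mem_stabilizer_iff.2 h0⟩⟩

theorem M24_of_22 (g : Spor.M22) : (g : Equiv.Perm GolayPt) ∈ M24 :=
  (Subgroup.mem_inf.1 (Subgroup.mem_inf.1 g.2).1).1

theorem none_of_22 (g : Spor.M22) : (g : Equiv.Perm GolayPt) none = none :=
  mem_stabilizer_iff.1 (Subgroup.mem_inf.1 (Subgroup.mem_inf.1 g.2).1).2

theorem zero_of_22 (g : Spor.M22) : (g : Equiv.Perm GolayPt) (some 0) = some 0 :=
  mem_stabilizer_iff.1 (Subgroup.mem_inf.1 g.2).2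

/-- an element of a set of points and a point outside, both different from the given ones -/
theorem exists_in_out {s F : Finset GolayPt} (h1 : F.card < s.card) (h2 : s.card + F.card < 24) :
    (∃ c ∈ s, c ∉ F) ∧ ∃ d, d ∉ s ∧ d ∉ F := by
  constructor
  · by_contra h
    push Not at h
    have := Finset.card_le_card (show s ⊆ F from h)
    omega
  · by_contra h
    push Not at h
    have h3 : (Finset.univ : Finset GolayPt) ⊆ s ∪ F := by
      intro d _
      rw [Finset.mem_union]
      by_cases hd : d ∈ s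
      · exact Or.inl hd
      · exact Or.inr (h d hd)
    have h4 := Finset.card_le_card h3
    have h5 := Finset.card_union_le s F
    have h6 : (Finset.univ : Finset GolayPt).card = 24 := by decide
    omega

/-- an element of `M23` moving a set of points -/
theorem move23 {s : Finset GolayPt} (h1 : 1 < s.card) (h2 : s.card < 23) : ∃ g : Spor.M23, g • s ≠ s := by
  obtain ⟨⟨c, hc, hcF⟩, d, hd, hdF⟩ := exists_in_out (s := s) (F := {none}) (by rw [Finset.card_singleton]; exact h1)
    (by rw [Finset.card_singleton]; omega)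
  rw [Finset.mem_singleton] at hcF hdF
  have hcd : c ≠ d := fun h => hd (h ▸ hc)
  obtain ⟨g, hg, g1, g2, -⟩ := map3 (a := none) (b := c) (c := d) (a' := none) (b' := d) (c' := c)
    (Ne.symm hcF) (Ne.symm hdF) hcd (Ne.symm hdF) (Ne.symm hcF) hcd.symm
  refine ⟨mk23 g hg g1, fun h => hd ?_⟩
  have h3 : d ∈ g • s := (mem_smul_map g2).2 hc
  have h4 : g • s = s := h
  rwa [h4] at h3

/-- an element of `M22` moving a set of points -/
theorem move22 {s : Finset GolayPt} (h1 : 2 < s.card) (h2 : s.card < 22) : ∃ g : Spor.M22, g • s ≠ s := by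
  have h0 : (none : GolayPt) ≠ some 0 := by simp
  obtain ⟨⟨c, hc, hcF⟩, d, hd, hdF⟩ := exists_in_out (s := s) (F := {none, some 0})
    (by rw [Finset.card_pair h0]; exact h1) (by rw [Finset.card_pair h0]; omega)
  rw [Finset.mem_insert, Finset.mem_singleton, not_or] at hcF hdF
  have hcd : c ≠ d := fun h => hd (h ▸ hc)
  obtain ⟨g, hg, g1, g2, g3, -⟩ := map4 (a := none) (b := some 0) (c := c) (d := d) (a' := none)
    (b' := some 0) (c' := d) (d' := c) h0 (Ne.symm hcF.1) (Ne.symm hdF.1) (Ne.symm hcF.2)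
    (Ne.symm hdF.2) hcd h0 (Ne.symm hdF.1) (Ne.symm hcF.1) (Ne.symm hdF.2) (Ne.symm hcF.2) hcd.symm
  refine ⟨mk22 g hg g1 g2, fun h => hd ?_⟩
  have h3 : d ∈ g • s := (mem_smul_map g3).2 hc
  have h4 : g • s = s := h
  rwa [h4] at h3

end Cfsg.Agent.H867.Max.Oct
end

-- part: H867/Max/MTwentyTwo
section
/-!
# Five classes of maximal subgroups of the Mathieu group of degree 22

The stabilisers of a point, a hexad, a heptad and a duad (indices 22, 77, 176, 231) are maximal,
and a subgroup of order 11 lies in none of them.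
-/

set_option autoImplicit false

open scoped Pointwise

namespace Cfsg.Agent.H867.Max.MTwentyTwo

open Cfsg MulAction Cfsg.Agent.H940.MaxCls Cfsg.Agent.H867.Max.Sub Cfsg.Agent.H867.Max.Oct

theorem card_G : Nat.card Spor.M22 = 443520 := Cfsg.Agent.SporadicA.MathieuRecog.card_M22

theorem fin_G : Finite Spor.M22 := Nat.finite_of_card_ne_zero (by rw [card_G]; norm_num)

theorem n0 : (none : GolayPt) ≠ some 0 := by simp

theorem point : IsCoatom (stabilizer Spor.M22 (some 1 : GolayPt)) ∧
    (stabilizer Spor.M22 (some 1 : GolayPt)).index = 22 := by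
  have := fin_G
  have h := coatom_of_classes (G := Spor.M22) (o := (some 1 : GolayPt))
    (O := {x | x ≠ none ∧ x ≠ some 0})
    (t := fun _ => 0) (L := [(0, 21)]) (Set.toFinite _) card_G ?_ ?_ (by decide) ?_ ?_ ?_ (by decide)
  · exact ⟨h.1, h.2⟩
  · intro g
    constructor
    · intro h
      have h1 : (g : Equiv.Perm GolayPt) (some 1) = (g : Equiv.Perm GolayPt) none := by
        rw [none_of_22 g]; exact h
      exact absurd ((g : Equiv.Perm GolayPt).injective h1) (by simp)
    · intro h
      have h1 : (g : Equiv.Perm GolayPt) (some 1) = (g : Equiv.Perm GolayPt) (some 0) := by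
        rw [zero_of_22 g]; exact h
      exact absurd ((g : Equiv.Perm GolayPt).injective h1) (by decide)
  · intro x _ _
    simp
  · intro e he
    rw [List.mem_singleton] at he
    subst he
    have : {x : GolayPt | x ∈ {x : GolayPt | x ≠ none ∧ x ≠ some 0} ∧ x ≠ some 1 ∧ 0 = (0, 21).1} =
        ((Finset.univ.filter fun x : GolayPt => (x ≠ none ∧ x ≠ some 0) ∧ x ≠ some 1 : Finset GolayPt) :
          Set GolayPt) := by
      ext x; simp
    rw [this, Set.ncard_coe_finset]
    decide
  · intro x hx y hy hxo hyo _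
    obtain ⟨g, hg, g1, g2, g3, g4⟩ := map4 (a := none) (b := some 0) (c := some 1) (d := x)
      (a' := none) (b' := some 0) (c' := some 1) (d' := y) (by simp) (by simp) (Ne.symm hx.1)
      (by decide) (Ne.symm hx.2) (Ne.symm hxo) (by simp) (by simp) (Ne.symm hy.1)
      (by decide) (Ne.symm hy.2) (Ne.symm hyo)
    exact ⟨mk22 g hg g1 g2, g3, g4⟩
  · obtain ⟨g, hg, g1, g2, g3, -⟩ := map4 (a := none) (b := some 0) (c := some 1) (d := some 2)
      (a' := none) (b' := some 0) (c' := some 2) (d' := some 1) (by simp) (by simp) (by simp)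
      (by decide) (by decide) (by decide) (by simp) (by simp) (by simp)
      (by decide) (by decide) (by decide)
    refine ⟨mk22 g hg g1 g2, fun h => ?_⟩
    have h1 : g (some 1) = some 1 := h
    rw [g3] at h1
    exact absurd h1 (by decide)

theorem hexad {o : Finset GolayPt} (ho : o ∈ octads) (hx : none ∈ o) (hx0 : some 0 ∈ o) :
    IsCoatom (stabilizer Spor.M22 o) ∧ (stabilizer Spor.M22 o).index = 77 := by
  have := fin_G
  have h8 := card8 ho
  have h := coatom_of_classes (G := Spor.M22) (o := o)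
    (O := {x | x ∈ octads ∧ none ∈ x ∧ some 0 ∈ x})
    (t := fun x => (o ∩ x).card) (L := [(2, 16), (4, 60)]) (Set.toFinite _) card_G ?_ ?_
    (by decide) ?_ ?_ (move22 (by omega) (by omega)) (by decide)
  · exact ⟨h.1, h.2⟩
  · intro g
    exact ⟨smul_octad (M24_of_22 g) ho, (mem_smul_of_fix (none_of_22 g)).2 hx,
      (mem_smul_of_fix (zero_of_22 g)).2 hx0⟩
  · rintro x ⟨h1, h2, _⟩ hne
    have h3 : (o ∩ x).card ≠ 0 := by
      rw [Finset.card_ne_zero]
      exact ⟨none, Finset.mem_inter.2 ⟨hx, h2⟩⟩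
    rcases inter_octad ho h1 hne with h | h | h
    · exact absurd h h3
    · simp [h]
    · simp [h]
  · obtain ⟨n2, n4, -⟩ := Cfsg.Agent.S1604.result none (some 0) n0 o o o ho ho ho ⟨hx, hx, hx⟩
      ⟨hx0, hx0, hx0⟩ rfl
    intro e he
    have key : ∀ k : ℕ, k ≠ 8 → {x : Finset GolayPt |
        x ∈ {x : Finset GolayPt | x ∈ octads ∧ none ∈ x ∧ some 0 ∈ x} ∧ x ≠ o ∧ (o ∩ x).card = k} =
        {x : Finset GolayPt | x ∈ octads ∧ none ∈ x ∧ some 0 ∈ x ∧ (o ∩ x).card = k} := by
      intro k hk
      ext x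
      constructor
      · rintro ⟨⟨h1, h2, h3⟩, -, h4⟩
        exact ⟨h1, h2, h3, h4⟩
      · rintro ⟨h1, h2, h3, h4⟩
        refine ⟨⟨h1, h2, h3⟩, ?_, h4⟩
        rintro rfl
        rw [Finset.inter_self, h8] at h4
        exact hk h4.symm
    simp only [List.mem_cons, List.not_mem_nil, or_false] at he
    rcases he with rfl | rfl
    · rw [key 2 (by norm_num)]; exact n2
    · rw [key 4 (by norm_num)]; exact n4
  · rintro x ⟨h1, h2, h2'⟩ y ⟨h3, h4, h4'⟩ _ _ hxy
    obtain ⟨-, -, g, hg, g1, g2, g3, g4⟩ := Cfsg.Agent.S1604.result none (some 0) n0 o x y ho h1 h3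
      ⟨hx, h2, h4⟩ ⟨hx0, h2', h4'⟩ hxy
    exact ⟨mk22 g hg g1 g2, g3, g4⟩

theorem heptad {o : Finset GolayPt} (ho : o ∈ octads) (hx : none ∈ o) (hx0 : some 0 ∉ o) :
    IsCoatom (stabilizer Spor.M22 o) ∧ (stabilizer Spor.M22 o).index = 176 := by
  have := fin_G
  have h8 := card8 ho
  obtain ⟨-, -, h3⟩ := Cfsg.Agent.S1605.result none (some 0) n0
  obtain ⟨n2, n4, tr⟩ := h3 o ⟨ho, hx, hx0⟩
  have h := coatom_of_classes (G := Spor.M22) (o := o)
    (O := {x | x ∈ octads ∧ none ∈ x ∧ some 0 ∉ x})
    (t := fun x => (o ∩ x).card) (L := [(2, 70), (4, 105)]) (Set.toFinite _) card_G ?_ ?_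
    (by decide) ?_ ?_ (move22 (by omega) (by omega)) (by decide)
  · exact ⟨h.1, h.2⟩
  · intro g
    exact ⟨smul_octad (M24_of_22 g) ho, (mem_smul_of_fix (none_of_22 g)).2 hx,
      fun h => hx0 ((mem_smul_of_fix (zero_of_22 g)).1 h)⟩
  · rintro x ⟨h1, h2, _⟩ hne
    have h3 : (o ∩ x).card ≠ 0 := by
      rw [Finset.card_ne_zero]
      exact ⟨none, Finset.mem_inter.2 ⟨hx, h2⟩⟩
    rcases inter_octad ho h1 hne with h | h | h
    · exact absurd h h3
    · simp [h]
    · simp [h]
  · intro e he
    have key : ∀ k : ℕ, k ≠ 8 → {x : Finset GolayPt |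
        x ∈ {x : Finset GolayPt | x ∈ octads ∧ none ∈ x ∧ some 0 ∉ x} ∧ x ≠ o ∧ (o ∩ x).card = k} =
        {x : Finset GolayPt | (x ∈ octads ∧ none ∈ x ∧ some 0 ∉ x) ∧ (o ∩ x).card = k} := by
      intro k hk
      ext x
      constructor
      · rintro ⟨h1, -, h4⟩
        exact ⟨h1, h4⟩
      · rintro ⟨h1, h4⟩
        refine ⟨h1, ?_, h4⟩
        rintro rfl
        rw [Finset.inter_self, h8] at h4
        exact hk h4.symm
    simp only [List.mem_cons, List.not_mem_nil, or_false] at he
    rcases he with rfl | rfl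
    · rw [key 2 (by norm_num)]; exact n2
    · rw [key 4 (by norm_num)]; exact n4
  · rintro x h1 y h3 _ _ hxy
    obtain ⟨g, hg, g1, g2, g3, g4⟩ := tr x y h1 h3 hxy
    exact ⟨mk22 g hg g1 g2, g3, g4⟩

/-- the base duad -/
def sd : Finset GolayPt := {some 1, some 2}

open scoped Classical in
/-- the type of a duad: meets `sd` in a point; in a common hexad with it; other -/
noncomputable def ty (x : Finset GolayPt) : ℕ :=
  if (sd ∩ x).card = 1 then 1 else
    if ∃ o ∈ octads, none ∈ o ∧ some 0 ∈ o ∧ sd ∪ x ⊆ o then 2 else 3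

theorem ty_one {x : Finset GolayPt} : ty x = 1 ↔ (sd ∩ x).card = 1 := by
  unfold ty
  by_cases h : (sd ∩ x).card = 1
  · rw [if_pos h]; exact ⟨fun _ => h, fun _ => rfl⟩
  · rw [if_neg h]
    refine ⟨fun h1 => ?_, fun h1 => absurd h1 h⟩
    by_cases h2 : ∃ o ∈ octads, none ∈ o ∧ some 0 ∈ o ∧ sd ∪ x ⊆ o
    · rw [if_pos h2] at h1; exact absurd h1 (by norm_num)
    · rw [if_neg h2] at h1; exact absurd h1 (by norm_num)

theorem ty_two {x : Finset GolayPt} : ty x = 2 ↔
    (sd ∩ x).card ≠ 1 ∧ ∃ o ∈ octads, none ∈ o ∧ some 0 ∈ o ∧ sd ∪ x ⊆ o := by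
  unfold ty
  by_cases h : (sd ∩ x).card = 1
  · rw [if_pos h]; exact ⟨fun h1 => absurd h1 (by norm_num), fun h1 => absurd h h1.1⟩
  · rw [if_neg h]
    by_cases h2 : ∃ o ∈ octads, none ∈ o ∧ some 0 ∈ o ∧ sd ∪ x ⊆ o
    · rw [if_pos h2]; exact ⟨fun _ => ⟨h, h2⟩, fun _ => rfl⟩
    · rw [if_neg h2]; exact ⟨fun h1 => absurd h1 (by norm_num), fun h1 => absurd h1.2 h2⟩

theorem ty_three {x : Finset GolayPt} : ty x = 3 ↔
    (sd ∩ x).card ≠ 1 ∧ ¬ ∃ o ∈ octads, none ∈ o ∧ some 0 ∈ o ∧ sd ∪ x ⊆ o := by
  unfold ty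
  by_cases h : (sd ∩ x).card = 1
  · rw [if_pos h]; exact ⟨fun h1 => absurd h1 (by norm_num), fun h1 => absurd h h1.1⟩
  · rw [if_neg h]
    by_cases h2 : ∃ o ∈ octads, none ∈ o ∧ some 0 ∈ o ∧ sd ∪ x ⊆ o
    · rw [if_pos h2]; exact ⟨fun h1 => absurd h1 (by norm_num), fun h1 => absurd h2 h1.2⟩
    · rw [if_neg h2]; exact ⟨fun _ => ⟨h, h2⟩, fun _ => rfl⟩

theorem ty_cases (x : Finset GolayPt) : ty x = 1 ∨ ty x = 2 ∨ ty x = 3 := by
  unfold ty
  split_ifs <;> simp

/-- the duads avoiding the two points -/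
def Du : Set (Finset GolayPt) := {x | x.card = 2 ∧ none ∉ x ∧ some 0 ∉ x}

theorem sd_mem : sd ∈ Du := by
  refine ⟨by decide, by decide, by decide⟩

theorem inter_lt {x : Finset GolayPt} (hx : x ∈ Du) (hne : x ≠ sd) : (sd ∩ x).card = 0 ∨ (sd ∩ x).card = 1 := by
  have h1 : (sd ∩ x).card ≤ 2 := (Finset.card_le_card Finset.inter_subset_right).trans hx.1.le
  have h2 : (sd ∩ x).card ≠ 2 := by
    intro h
    have h3 : sd ∩ x = sd := Finset.eq_of_subset_of_card_le Finset.inter_subset_left (by rw [h]; decide)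
    have h4 : sd ∩ x = x := Finset.eq_of_subset_of_card_le Finset.inter_subset_right (by rw [h, hx.1])
    exact hne (h4.symm.trans h3)
  omega

theorem duad : IsCoatom (stabilizer Spor.M22 sd) ∧ (stabilizer Spor.M22 sd).index = 231 := by
  have := fin_G
  obtain ⟨n30, n160, tr⟩ := Cfsg.Agent.S1638.result none (some 0) n0 sd sd_mem
  have h := coatom_of_classes (G := Spor.M22) (o := sd) (O := Du) (t := ty)
    (L := [(1, 40), (2, 30), (3, 160)]) (Set.toFinite _) card_G ?_ ?_
    (by decide) ?_ ?_ ?_ (by decide)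
  · exact ⟨h.1, h.2⟩
  · intro g
    refine ⟨?_, fun h => sd_mem.2.1 ((mem_smul_of_fix (none_of_22 g)).1 h),
      fun h => sd_mem.2.2 ((mem_smul_of_fix (zero_of_22 g)).1 h)⟩
    rw [Finset.card_smul_finset]; decide
  · intro x _ _
    rcases ty_cases x with h | h | h <;> simp [h]
  · intro e he
    simp only [List.mem_cons, List.not_mem_nil, or_false] at he
    rcases he with rfl | rfl | rfl
    · have h1 : {x | x ∈ Du ∧ x ≠ sd ∧ ty x = (1, 40).1} =
          (((Finset.univ.powersetCard 2).filter fun x : Finset GolayPt =>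
            none ∉ x ∧ some 0 ∉ x ∧ (sd ∩ x).card = 1 : Finset (Finset GolayPt)) :
            Set (Finset GolayPt)) := by
        ext x
        simp only [Finset.coe_filter, Finset.mem_powersetCard, Set.mem_setOf_eq]
        constructor
        · rintro ⟨h1, -, h3⟩
          exact ⟨⟨Finset.subset_univ _, h1.1⟩, h1.2.1, h1.2.2, ty_one.1 h3⟩
        · rintro ⟨⟨-, h1⟩, h2, h3, h4⟩
          refine ⟨⟨h1, h2, h3⟩, ?_, ?_⟩
          · rintro rfl
            rw [Finset.inter_self] at h4
            exact absurd h4 (by decide)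
          · exact ty_one.2 h4
      rw [h1, Set.ncard_coe_finset]
      decide +kernel
    · rw [← n30]
      congr 1
      ext x
      constructor
      · rintro ⟨h1, h2, h3⟩
        obtain ⟨h4, h5⟩ := ty_two.1 h3
        refine ⟨h1, ?_, h5⟩
        rw [Finset.disjoint_iff_inter_eq_empty, ← Finset.card_eq_zero]
        exact (inter_lt h1 h2).resolve_right h4
      · rintro ⟨h1, h2, h3⟩
        rw [Finset.disjoint_iff_inter_eq_empty] at h2
        refine ⟨h1, ?_, ?_⟩
        · rintro rfl
          rw [Finset.inter_self] at h2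
          exact absurd h2 (by decide)
        · exact ty_two.2 ⟨by rw [h2]; decide, h3⟩
    · rw [← n160]
      congr 1
      ext x
      constructor
      · rintro ⟨h1, h2, h3⟩
        obtain ⟨h4, h5⟩ := ty_three.1 h3
        refine ⟨h1, ?_, h5⟩
        rw [Finset.disjoint_iff_inter_eq_empty, ← Finset.card_eq_zero]
        exact (inter_lt h1 h2).resolve_right h4
      · rintro ⟨h1, h2, h3⟩
        rw [Finset.disjoint_iff_inter_eq_empty] at h2
        refine ⟨h1, ?_, ?_⟩
        · rintro rfl
          rw [Finset.inter_self] at h2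
          exact absurd h2 (by decide)
        · exact ty_three.2 ⟨by rw [h2]; decide, h3⟩
  · intro x hx y hy hxo hyo hxy
    -- duads meeting `sd` in a point are not in a common hexad question: compare both data
    by_cases hx1 : (sd ∩ x).card = 1
    · have hy1 : (sd ∩ y).card = 1 := ty_one.1 (hxy.symm.trans (ty_one.2 hx1))
      -- write `x = {a, c}`, `y = {a', c'}` with `a, a'` in `sd`
      have shape : ∀ x ∈ Du, (sd ∩ x).card = 1 → ∃ a b c : GolayPt, sd = {a, b} ∧ a ≠ b ∧
          x = {a, c} ∧ c ≠ none ∧ c ≠ some 0 ∧ c ≠ a ∧ c ≠ b ∧ a ≠ none ∧ a ≠ some 0 ∧ b ≠ none ∧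
          b ≠ some 0 := by
        intro x hx h1
        obtain ⟨a, ha⟩ := Finset.card_eq_one.1 h1
        have ha' : a ∈ sd ∩ x := by rw [ha]; exact Finset.mem_singleton_self a
        have has := (Finset.mem_inter.1 ha').1
        have hax := (Finset.mem_inter.1 ha').2
        obtain ⟨p, q, hpq, hxpq⟩ := Finset.card_eq_two.1 hx.1
        obtain ⟨c, hc, hxc⟩ : ∃ c, c ≠ a ∧ x = {a, c} := by
          rw [hxpq, Finset.mem_insert, Finset.mem_singleton] at hax
          rcases hax with rfl | rfl
          · exact ⟨q, hpq.symm, hxpq⟩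
          · exact ⟨p, hpq, by rw [hxpq, Finset.pair_comm]⟩
        have hcx : c ∈ x := by rw [hxc]; simp
        have hcs : c ∉ sd := by
          intro h
          have : c ∈ sd ∩ x := Finset.mem_inter.2 ⟨h, hcx⟩
          rw [ha, Finset.mem_singleton] at this
          exact hc this
        have hcn : c ≠ none := fun h => hx.2.1 (h ▸ hcx)
        have hc0 : c ≠ some 0 := fun h => hx.2.2 (h ▸ hcx)
        have hs : a = some 1 ∨ a = some 2 := by
          simpa only [sd, _root_.Finset.mem_insert, _root_.Finset.mem_singleton] using has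
        have hcs' : c ≠ some 1 ∧ c ≠ some 2 := by
          simpa only [sd, _root_.ne_eq, _root_.Finset.mem_insert, _root_.Finset.mem_singleton, _root_.not_or] using hcs
        rcases hs with rfl | rfl
        · exact ⟨some 1, some 2, c, rfl, by decide, hxc, hcn, hc0, hcs'.1, hcs'.2, by simp,
            by decide, by simp, by decide⟩
        · exact ⟨some 2, some 1, c, by decide, by decide, hxc, hcn, hc0, hcs'.2, hcs'.1, by simp,
            by decide, by simp, by decide⟩
      obtain ⟨a, b, c, hs, hab, rfl, c1, c2, c3, c4, a1, a2, b1, b2⟩ := shape x hx hx1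
      obtain ⟨a', b', c', hs', hab', rfl, c1', c2', c3', c4', a1', a2', b1', b2'⟩ := shape y hy hy1
      obtain ⟨g, hg⟩ := Cfsg.Agent.SporadicStructure.M23Index253.exists_map Cfsg.Agent.S0366.result
        (by norm_num : 5 ≤ 5) ![none, some 0, a, b, c] ![none, some 0, a', b', c']
        (by
          intro i j; (revert i j; simp only [a1, a2, b1, b2, c1, c2, c3, c4, hab, a1.symm, a2.symm, b1.symm, b2.symm, c1.symm, c2.symm, c3.symm, c4.symm, hab.symm, _root_.Fin.forall_fin_succ, Fin.isValue, _root_.Matrix.cons_val_zero, _root_.Matrix.cons_val_succ, _root_.Fin.succ_zero_eq_one, _root_.Fin.succ_one_eq_two, Fin.reduceSucc, _root_.Matrix.cons_val_fin_one, _root_.IsEmpty.forall_iff, _root_.and_true, _root_.imp_self, reduceCtorEq, _root_.zero_ne_one, Fin.reduceEq, _root_.and_self, _root_.Fin.succ_ne_zero, _root_.imp_false, _root_.not_false_eq_true, _root_.forall_const, _root_.true_and]))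
        (by
          intro i j; (revert i j; simp only [a1', a2', b1', b2', c1', c2', c3', c4', hab', a1'.symm, a2'.symm, b1'.symm, b2'.symm, c1'.symm, c2'.symm, c3'.symm, c4'.symm, hab'.symm, _root_.Fin.forall_fin_succ, Fin.isValue, _root_.Matrix.cons_val_zero, _root_.Matrix.cons_val_succ, _root_.Fin.succ_zero_eq_one, _root_.Fin.succ_one_eq_two, Fin.reduceSucc, _root_.Matrix.cons_val_fin_one, _root_.IsEmpty.forall_iff, _root_.and_true, _root_.imp_self, reduceCtorEq, _root_.zero_ne_one, Fin.reduceEq, _root_.and_self, _root_.Fin.succ_ne_zero, _root_.imp_false, _root_.not_false_eq_true, _root_.forall_const, _root_.true_and]))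
      have g1 : (g : Equiv.Perm GolayPt) none = none := hg 0
      have g2 : (g : Equiv.Perm GolayPt) (some 0) = some 0 := hg 1
      have g3 : (g : Equiv.Perm GolayPt) a = a' := hg 2
      have g4 : (g : Equiv.Perm GolayPt) b = b' := hg 3
      have g5 : (g : Equiv.Perm GolayPt) c = c' := hg 4
      have pair : ∀ p q : GolayPt, (g : Equiv.Perm GolayPt) • ({p, q} : Finset GolayPt) =
          {(g : Equiv.Perm GolayPt) p, (g : Equiv.Perm GolayPt) q} := by
        intro p q
        rw [Finset.smul_finset_insert, Finset.smul_finset_singleton]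
        rfl
      refine ⟨mk22 g g.2 g1 g2, ?_, ?_⟩
      · show (g : Equiv.Perm GolayPt) • sd = sd
        conv_lhs => rw [hs]
        rw [pair, g3, g4, ← hs']
      · show (g : Equiv.Perm GolayPt) • ({a, c} : Finset GolayPt) = {a', c'}
        rw [pair, g3, g5]
    · have hy1 : (sd ∩ y).card ≠ 1 := fun hy1 => hx1 (ty_one.1 (hxy.trans (ty_one.2 hy1)))
      have hx0 := (inter_lt hx hxo).resolve_right hx1
      have hy0 := (inter_lt hy hyo).resolve_right hy1
      obtain ⟨g, hg, g1, g2, g3, g4⟩ := tr x y hx hy hxo hyo (hx0.trans hy0.symm)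
        ⟨fun h => (ty_two.1 (hxy.symm.trans (ty_two.2 ⟨hx1, h⟩))).2,
          fun h => (ty_two.1 (hxy.trans (ty_two.2 ⟨hy1, h⟩))).2⟩
      exact ⟨mk22 g hg g1 g2, g3, g4⟩
  · -- an element moving the duad
    obtain ⟨g, hg, g1, g2, g3, -⟩ := map4 (a := none) (b := some 0) (c := some 1) (d := some 3)
      (a' := none) (b' := some 0) (c' := some 3) (d' := some 1) (by simp) (by simp) (by simp)
      (by decide) (by decide) (by decide) (by simp) (by simp) (by simp)
      (by decide) (by decide) (by decide)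
    refine ⟨mk22 g hg g1 g2, fun h => ?_⟩
    have h1 : (some 3 : GolayPt) ∈ g • sd := (mem_smul_map g3).2 (by decide)
    have h2 : g • sd = sd := h
    rw [h2] at h1
    exact absurd h1 (by decide)

/-- **The row `M22`.** -/
theorem sep : Sep 5 Spor.M22 := by
  have := fin_G
  have : Fact (Nat.Prime 11) := ⟨by norm_num⟩
  obtain ⟨o₀, ho₀⟩ : octads.Nonempty :=
    Set.nonempty_of_ncard_ne_zero (by rw [Cfsg.Agent.S0360.result]; norm_num)
  have h8 := card8 ho₀
  -- two points of the octad and a point outside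
  obtain ⟨⟨a, ha, -⟩, d, hd, -⟩ := exists_in_out (s := o₀) (F := ∅) (by rw [h8]; decide) (by rw [h8]; decide)
  obtain ⟨⟨b, hb, hbF⟩, -⟩ := exists_in_out (s := o₀) (F := {a})
    (by rw [h8, Finset.card_singleton]; norm_num) (by rw [h8, Finset.card_singleton]; norm_num)
  rw [Finset.mem_singleton] at hbF
  have had : a ≠ d := fun h => hd (h ▸ ha)
  have hbd : b ≠ d := fun h => hd (h ▸ hb)
  obtain ⟨g, hg, g1, g2, -⟩ := map3 (a := a) (b := b) (c := d) (a' := none) (b' := some 0)
    (c' := some 1) (Ne.symm hbF) had hbd (by simp) (by simp) (by decide)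
  obtain ⟨k, hk, k1, k2, -⟩ := map3 (a := a) (b := d) (c := b) (a' := none) (b' := some 0)
    (c' := some 1) had (Ne.symm hbF) hbd.symm (by simp) (by simp) (by decide)
  obtain ⟨c1, i1⟩ := point
  obtain ⟨c2, i2⟩ := hexad (smul_octad hg ho₀) ((mem_smul_map g1).2 ha) ((mem_smul_map g2).2 hb)
  obtain ⟨c3, i3⟩ := heptad (smul_octad hk ho₀) ((mem_smul_map k1).2 ha)
    (fun h => hd ((mem_smul_map k2).1 h))
  obtain ⟨c4, i4⟩ := duad
  obtain ⟨x, hxo⟩ := exists_prime_orderOf_dvd_card' (G := Spor.M22) 11 (by rw [card_G]; norm_num)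
  have hR : Nat.card (Subgroup.zpowers x) = 11 := by rw [Nat.card_zpowers, hxo]
  have hRt : Subgroup.zpowers x ≠ ⊤ := by
    intro h
    rw [h, Subgroup.card_top, card_G] at hR
    norm_num at hR
  exact sep_five c1.1 c2.1 c3.1 c4.1 hRt
    (apart_of_index c1 c2 i1 i2 (by norm_num)) (apart_of_index c1 c3 i1 i3 (by norm_num))
    (apart_of_index c1 c4 i1 i4 (by norm_num)) (_root_.Cfsg.Agent.H867.Max.Sub.apart_of_card card_G c1 i1 hR (by norm_num))
    (apart_of_index c2 c3 i2 i3 (by norm_num)) (apart_of_index c2 c4 i2 i4 (by norm_num))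
    (_root_.Cfsg.Agent.H867.Max.Sub.apart_of_card card_G c2 i2 hR (by norm_num)) (apart_of_index c3 c4 i3 i4 (by norm_num))
    (_root_.Cfsg.Agent.H867.Max.Sub.apart_of_card card_G c3 i3 hR (by norm_num)) (_root_.Cfsg.Agent.H867.Max.Sub.apart_of_card card_G c4 i4 hR (by norm_num))

end Cfsg.Agent.H867.Max.MTwentyTwo
end

private theorem dce_35feeaba840a : _root_.True := by
  try have : _root_.True := by simp only [_root_.Cfsg.Agent.H867.Max.MTwentyTwo.sd.eq_1]
  exact _root_.True.intro
end

-- part: H395/EPM/Perm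
section
prune_inst 0x10400014000000000000000000002030000002004000002000000001010040804000000000010000c010001040400000000000001000000a003000000600000000100000100c00200000000000000000000000000000000000000000000000200000000
set_option linter.all false
open scoped Cfsg.Agent.FastGrp

-- part: H395/EPM/Golay
section
/-!
# Every set of points is a code word plus at most three points or a tetrad through a given point
-/

set_option autoImplicit false
set_option linter.constructorNameAsVariable false

open scoped Pointwise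

namespace Cfsg.Agent.H395.EPM

open Cfsg Cfsg.Agent.SporadicA.GolayBase Cfsg.Agent.H867.Max.Oct

/-- the code as a family of sets -/
abbrev Cd : Set (Finset GolayPt) := supports (golayCode : Set (GolayPt → ZMod 2))

theorem card_Cd : Cd.ncard = 4096 := by
  have h1 : Cd = support₂ '' (golayCode : Set (GolayPt → ZMod 2)) := rfl
  rw [h1, Set.ncard_image_of_injective]
  · have h2 : Nat.card golayCode = 4096 := by
      rw [Module.natCard_eq_pow_finrank (K := ZMod 2) (V := golayCode), S0358.result, Nat.card_eq_fintype_card,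
        ZMod.card]
      norm_num
    exact h2
  · intro v w h
    funext p
    have h2 : (p ∈ support₂ v) ↔ (p ∈ support₂ w) := by rw [h]
    simp only [support₂, Finset.mem_filter, Finset.mem_univ, true_and] at h2
    generalize v p = a at h2 ⊢
    generalize w p = b at h2 ⊢
    revert a b
    decide

/-- sets of at most three points, or four points containing `a` -/
def Sm (a : GolayPt) : Finset (Finset GolayPt) :=
  (Finset.range 4).biUnion (fun k => Finset.powersetCard k Finset.univ) ∪
    (Finset.powersetCard 3 (Finset.univ.erase a)).image (insert a)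

theorem mem_Sm {a : GolayPt} {e : Finset GolayPt} (h : e ∈ Sm a) : e.card ≤ 3 ∨ (e.card = 4 ∧ a ∈ e) := by
  rw [Sm, Finset.mem_union, Finset.mem_biUnion, Finset.mem_image] at h
  rcases h with ⟨k, hk, h⟩ | ⟨s, hs, rfl⟩
  · left
    rw [Finset.mem_powersetCard] at h
    rw [Finset.mem_range] at hk
    omega
  · right
    rw [Finset.mem_powersetCard] at hs
    have ha : a ∉ s := fun ha => (Finset.mem_erase.1 (hs.1 ha)).1 rfl
    exact ⟨by rw [Finset.card_insert_of_notMem ha, hs.2], Finset.mem_insert_self a s⟩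

theorem card_Sm (a : GolayPt) : (Sm a).card = 4096 := by
  have h24 : Fintype.card GolayPt = 24 := by decide
  rw [Sm, Finset.card_union_of_disjoint, Finset.card_biUnion, Finset.card_image_of_injOn]
  · simp only [Finset.card_powersetCard, Finset.card_univ, Finset.card_erase_of_mem (Finset.mem_univ a), h24]
    decide
  · intro s hs t ht hst
    rw [Finset.mem_coe, Finset.mem_powersetCard] at hs ht
    have has : a ∉ s := fun ha => (Finset.mem_erase.1 (hs.1 ha)).1 rfl
    have hat : a ∉ t := fun ha => (Finset.mem_erase.1 (ht.1 ha)).1 rfl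
    have h1 : (insert a s).erase a = (insert a t).erase a := congrArg (fun x : Finset GolayPt => x.erase a) hst
    rwa [Finset.erase_insert has, Finset.erase_insert hat] at h1
  · intro i _ k _ hik
    exact Finset.pairwise_disjoint_powersetCard _ hik
  · rw [Finset.disjoint_left]
    intro e he he'
    rw [Finset.mem_biUnion] at he
    obtain ⟨k, hk, he⟩ := he
    rw [Finset.mem_powersetCard] at he
    rw [Finset.mem_range] at hk
    rw [Finset.mem_image] at he'
    obtain ⟨s, hs, rfl⟩ := he'
    rw [Finset.mem_powersetCard] at hs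
    have ha : a ∉ s := fun ha => (Finset.mem_erase.1 (hs.1 ha)).1 rfl
    have := Finset.card_insert_of_notMem ha
    omega

theorem symmDiff_cancel (x y z : Finset GolayPt) : symmDiff (symmDiff x y) (symmDiff x z) = symmDiff y z := by
  rw [symmDiff_comm x y, symmDiff_assoc, symmDiff_symmDiff_cancel_left]

/-- two small sets in the same class are equal -/
theorem eq_of_small {e e' : Finset GolayPt} (h : symmDiff e e' ∈ Cd) (hlt : e.card + e'.card < 8 + 2 * (e ∩ e').card) :
    e = e' := by
  have h1 := card_symmDiff_add e e'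
  have h0 : (symmDiff e e').card = 0 := by
    rcases card_of_mem_supports h with h2 | h2 | h2 | h2 | h2 <;> (clear * - h2 hlt h1; omega)
  rw [Finset.card_eq_zero] at h0
  exact symmDiff_eq_bot.1 h0

/-- **covering** -/
theorem covering (a : GolayPt) (D : Finset GolayPt) :
    ∃ e : Finset GolayPt, (e.card ≤ 3 ∨ (e.card = 4 ∧ a ∈ e)) ∧ symmDiff D e ∈ Cd := by
  classical
  have hfin : Cd.Finite := Set.toFinite _
  let C : Finset (Finset GolayPt) := hfin.toFinset
  have hC : C.card = 4096 := by
    rw [← card_Cd, Set.ncard_eq_toFinset_card _ hfin]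
  have hmem : ∀ c, c ∈ C ↔ c ∈ Cd := fun c => hfin.mem_toFinset
  have hinj : Set.InjOn (fun x : Finset GolayPt × Finset GolayPt => symmDiff x.1 x.2) (Sm a ×ˢ C : Finset _) := by
    rintro ⟨e, c⟩ h ⟨e', c'⟩ h' heq
    rw [Finset.mem_coe, Finset.mem_product] at h h'
    have heq' : symmDiff e c = symmDiff e' c' := heq
    have h1 : symmDiff e e' = symmDiff c c' := by
      have h2 : symmDiff (symmDiff e c) (symmDiff e' c') = ∅ := by rw [heq']; exact symmDiff_self _
      have h3 : symmDiff (symmDiff e e') (symmDiff c c') = ∅ := by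
        rw [← h2]
        rw [symmDiff_symmDiff_symmDiff_comm]
      exact symmDiff_eq_bot.1 h3
    have h4 : symmDiff e e' ∈ Cd := by
      rw [h1]
      exact symmDiff_mem_supports ((hmem c).1 h.2) ((hmem c').1 h'.2)
    have h5 : e = e' := by
      apply eq_of_small h4
      have m1 : e.card ≤ 3 ∨ (e.card = 4 ∧ a ∈ e) := mem_Sm h.1
      have m2 : e'.card ≤ 3 ∨ (e'.card = 4 ∧ a ∈ e') := mem_Sm h'.1
      rcases m1 with h6 | h6 <;> rcases m2 with h7 | h7
      · omega
      · omega
      · omega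
      · have h8 : 0 < (e ∩ e').card := Finset.card_pos.2 ⟨a, Finset.mem_inter.2 ⟨h6.2, h7.2⟩⟩
        omega
    subst h5
    have h6 : c = c' := by
      have h7 : symmDiff e (symmDiff e c) = symmDiff e (symmDiff e c') := by rw [heq']
      rwa [symmDiff_symmDiff_cancel_left, symmDiff_symmDiff_cancel_left] at h7
    rw [h6]
  have hcard : ((Sm a ×ˢ C).image (fun x : Finset GolayPt × Finset GolayPt => symmDiff x.1 x.2)).card =
      Fintype.card (Finset GolayPt) := by
    rw [Finset.card_image_of_injOn hinj, Finset.card_product, card_Sm, hC, Fintype.card_finset]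
    have h24 : Fintype.card GolayPt = 24 := by decide
    rw [h24]
    norm_num
  have h1 : (Sm a ×ˢ C).image (fun x : Finset GolayPt × Finset GolayPt => symmDiff x.1 x.2) = Finset.univ :=
    Finset.eq_univ_of_card _ hcard
  have h2 : D ∈ (Sm a ×ˢ C).image (fun x : Finset GolayPt × Finset GolayPt => symmDiff x.1 x.2) := by
    rw [h1]; exact Finset.mem_univ D
  rw [Finset.mem_image] at h2
  obtain ⟨⟨e, c⟩, h3, h4⟩ := h2
  rw [Finset.mem_product] at h3
  refine ⟨e, mem_Sm h3.1, ?_⟩
  have h5 : symmDiff D e = c := by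
    rw [← h4]
    change symmDiff (symmDiff e c) e = c
    rw [symmDiff_comm, symmDiff_symmDiff_cancel_left]
  rw [h5]
  exact (hmem c).1 h3.2

end Cfsg.Agent.H395.EPM
end

-- part: H395/EPM/Struct
section
/-!
# The subsets of the 22 points: canonical structures
-/

set_option autoImplicit false
set_option linter.constructorNameAsVariable false

open scoped Pointwise

namespace Cfsg.Agent.H395.EPM

open Cfsg Cfsg.Agent.SporadicA.GolayBase Cfsg.Agent.H867.Max.Oct
open Cfsg.Agent.J4Type.Aut22 (D22 mem_D22_iff M22_le_D22)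

/-- the base duad -/
def dd : Finset GolayPt := {none, some 0}

theorem smul_dd {g : Equiv.Perm GolayPt} (hg : g ∈ D22) : g • dd = dd :=
  MulAction.mem_stabilizer_iff.1 (Subgroup.mem_inf.1 hg).2

theorem mem24 {g : Equiv.Perm GolayPt} (hg : g ∈ D22) : g ∈ M24 := (Subgroup.mem_inf.1 hg).1

theorem smul_Cd {g : Equiv.Perm GolayPt} (hg : g ∈ M24) {s : Finset GolayPt} (hs : s ∈ Cd) : g • s ∈ Cd := by
  have h : g • Cd = Cd := MulAction.mem_stabilizer_iff.1 hg
  rw [← h]
  exact Set.smul_mem_smul_set hs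

theorem eq_of_codes {D e e' : Finset GolayPt} (h : symmDiff D e ∈ Cd) (h' : symmDiff D e' ∈ Cd)
    (hlt : e.card + e'.card < 8 + 2 * (e ∩ e').card) : e = e' := by
  apply eq_of_small _ hlt
  rw [← symmDiff_cancel D e e']
  exact symmDiff_mem_supports h h'

theorem code_smul {g : Equiv.Perm GolayPt} (hg : g ∈ D22) {D e : Finset GolayPt} (hD : g • D = D)
    (h : symmDiff D e ∈ Cd) : symmDiff D (g • e) ∈ Cd := by
  have h1 := smul_Cd (mem24 hg) h
  rwa [Finset.smul_finset_symmDiff, hD] at h1

/-- the kinds of structures -/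
def Kind (D s : Finset GolayPt) : Prop :=
  (s.card = 1 ∧ none ∉ s ∧ some 0 ∉ s) ∨ (s.card = 2 ∧ none ∉ s ∧ some 0 ∉ s) ∨
  (s ∈ octads ∧ none ∈ s ∧ some 0 ∈ s) ∨ (D.card = 7 ∧ s ∈ octads) ∨
  (s ∈ octads ∧ none ∉ s ∧ some 0 ∉ s) ∨ (D.card = 10 ∧ s ∈ dodecads)

theorem exists_octad {t : Finset GolayPt} (ht : t.card = 3) (h0 : none ∉ t) (h1 : some 0 ∉ t) :
    ∃ o ∈ octads, none ∈ o ∧ some 0 ∈ o ∧ ∀ g ∈ D22, g • t = t → g • o = o := by
  have hd : Disjoint dd t := by
    rw [dd, Finset.disjoint_left]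
    intro x hx
    rw [Finset.mem_insert, Finset.mem_singleton] at hx
    rcases hx with rfl | rfl
    · exact h0
    · exact h1
  have h5 : (dd ∪ t).card = 5 := by
    rw [Finset.card_union_of_disjoint hd, ht]
    rfl
  obtain ⟨o, ⟨ho, hs⟩, hu⟩ := S0363.result.2 (dd ∪ t) h5
  refine ⟨o, ho, hs (Finset.mem_union_left _ (by simp [dd])), hs (Finset.mem_union_left _ (by simp [dd])), ?_⟩
  intro g hg hgt
  apply hu
  refine ⟨smul_octad (mem24 hg) ho, ?_⟩
  have h6 : g • (dd ∪ t) ⊆ g • o := Finset.smul_finset_subset_smul_finset hs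
  rwa [Finset.smul_finset_union, smul_dd hg, hgt] at h6

theorem struct (D : Finset GolayPt) (h0 : none ∉ D) (h1 : some 0 ∉ D) (hne : D.Nonempty) (h10 : D.card ≤ 10) :
    ∃ s : Finset GolayPt, (∀ g ∈ D22, g • D = D → g • s = s) ∧ Kind D s := by
  have hpos := hne.card_pos
  have key3 : ∀ e : Finset GolayPt, e.card ≤ 3 → symmDiff D e ∈ Cd →
      ∃ s : Finset GolayPt, (∀ g ∈ D22, g • D = D → g • s = s) ∧ Kind D s := by
    intro e he hc
    have hge : ∀ g ∈ D22, g • D = D → g • e = e := by
      intro g hg hD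
      apply eq_of_codes (code_smul hg hD hc) hc
      rw [Finset.card_smul_finset]
      omega
    set t := e \ dd with ht
    have hgt : ∀ g ∈ D22, g • D = D → g • t = t := by
      intro g hg hD
      rw [ht, Finset.smul_finset_sdiff, hge g hg hD, smul_dd hg]
    have hn : none ∉ t := by simp [ht, dd]
    have hz : some 0 ∉ t := by simp [ht, dd]
    have htc : t.card ≤ 3 := (Finset.card_le_card Finset.sdiff_subset).trans he
    have h3 : t.card = 0 ∨ t.card = 1 ∨ t.card = 2 ∨ t.card = 3 := by omega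
    rcases h3 with h3 | h3 | h3 | h3
    · -- the code word
      have hsub : e ⊆ dd := by
        rw [Finset.card_eq_zero, ht, Finset.sdiff_eq_empty_iff_subset] at h3
        exact h3
      have hdis : D ∩ e = ∅ := by
        rw [← Finset.disjoint_iff_inter_eq_empty, Finset.disjoint_left]
        intro x hx hxe
        have hxd := hsub hxe
        rw [dd, Finset.mem_insert, Finset.mem_singleton] at hxd
        rcases hxd with rfl | rfl
        · exact h0 hx
        · exact h1 hx
      have hcard := card_symmDiff_add D e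
      rw [hdis, Finset.card_empty] at hcard
      have he2 : e.card ≤ 2 := (Finset.card_le_card hsub).trans (by decide)
      refine ⟨symmDiff D e, ?_, ?_⟩
      · intro g hg hD
        rw [Finset.smul_finset_symmDiff, hD, hge g hg hD]
      · have hmn : none ∈ symmDiff D e ↔ none ∈ e := by
          rw [Finset.mem_symmDiff]; (clear * - h0; tauto)
        have hmz : some 0 ∈ symmDiff D e ↔ some 0 ∈ e := by
          rw [Finset.mem_symmDiff]; (clear * - h1; tauto)
        rcases card_of_mem_supports hc with h4 | h4 | h4 | h4 | h4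
        · omega
        · have ho : symmDiff D e ∈ octads := ⟨hc, h4⟩
          by_cases hen : none ∈ e
          · by_cases hez : some 0 ∈ e
            · exact Or.inr (Or.inr (Or.inl ⟨ho, hmn.2 hen, hmz.2 hez⟩))
            · have h5 : e = {none} := by
                apply Finset.Subset.antisymm
                · intro x hx
                  have hxd := hsub hx
                  rw [dd, Finset.mem_insert, Finset.mem_singleton] at hxd
                  rcases hxd with rfl | rfl
                  · exact Finset.mem_singleton_self _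
                  · exact absurd hx hez
                · rw [Finset.singleton_subset_iff]; exact hen
              have h6 : e.card = 1 := by rw [h5]; rfl
              exact Or.inr (Or.inr (Or.inr (Or.inl ⟨by omega, ho⟩)))
          · by_cases hez : some 0 ∈ e
            · have h5 : e = {some 0} := by
                apply Finset.Subset.antisymm
                · intro x hx
                  have hxd := hsub hx
                  rw [dd, Finset.mem_insert, Finset.mem_singleton] at hxd
                  rcases hxd with rfl | rfl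
                  · exact absurd hx hen
                  · exact Finset.mem_singleton_self _
                · rw [Finset.singleton_subset_iff]; exact hez
              have h6 : e.card = 1 := by rw [h5]; rfl
              exact Or.inr (Or.inr (Or.inr (Or.inl ⟨by omega, ho⟩)))
            · exact Or.inr (Or.inr (Or.inr (Or.inr (Or.inl ⟨ho, fun h => hen (hmn.1 h), fun h => hez (hmz.1 h)⟩))))
        · exact Or.inr (Or.inr (Or.inr (Or.inr (Or.inr ⟨by omega, hc, h4⟩))))
        · omega
        · omega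
    · exact ⟨t, hgt, Or.inl ⟨h3, hn, hz⟩⟩
    · exact ⟨t, hgt, Or.inr (Or.inl ⟨h3, hn, hz⟩)⟩
    · obtain ⟨o, ho, ho1, ho2, ho3⟩ := exists_octad h3 hn hz
      exact ⟨o, fun g hg hD => ho3 g hg (hgt g hg hD), Or.inr (Or.inr (Or.inl ⟨ho, ho1, ho2⟩))⟩
  obtain ⟨e, he, hc⟩ := covering none D
  rcases he with he | ⟨he, hen⟩
  · exact key3 e he hc
  obtain ⟨e', he', hc'⟩ := covering (some 0) D
  rcases he' with he' | ⟨he', hez⟩
  · exact key3 e' he' hc'
  have same : ∀ a b : Finset GolayPt, a.card = 4 → b.card = 4 → symmDiff D a ∈ Cd → symmDiff D b ∈ Cd →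
      ∀ p, p ∈ a → p ∈ b → a = b := by
    intro a b ha hb hca hcb p hpa hpb
    apply eq_of_codes hca hcb
    have : 0 < (a ∩ b).card := Finset.card_pos.2 ⟨p, Finset.mem_inter.2 ⟨hpa, hpb⟩⟩
    omega
  have hmv : ∀ g ∈ D22, g • D = D → (g none = none ∧ g (some 0) = some 0 ∧ g • e = e ∧ g • e' = e') ∨
      (g • e = e' ∧ g • e' = e) := by
    intro g hg hD
    have hce := code_smul hg hD hc
    have hce' := code_smul hg hD hc'
    have c1 : (g • e).card = 4 := by rw [Finset.card_smul_finset]; exact he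
    have c2 : (g • e').card = 4 := by rw [Finset.card_smul_finset]; exact he'
    have m1 : g none ∈ g • e := Finset.smul_mem_smul_finset hen
    have m2 : g (some 0) ∈ g • e' := Finset.smul_mem_smul_finset hez
    rcases ((mem_D22_iff g).1 hg).2 with ⟨h3, h4⟩ | ⟨h3, h4⟩
    · rw [h3] at m1
      rw [h4] at m2
      exact Or.inl ⟨h3, h4, same _ _ c1 he hce hc none m1 hen, same _ _ c2 he' hce' hc' (some 0) m2 hez⟩
    · rw [h3] at m1
      rw [h4] at m2
      exact Or.inr ⟨same _ _ c1 he' hce hc' (some 0) m1 hez, same _ _ c2 he hce' hc none m2 hen⟩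
  by_cases heq : e = e'
  · subst heq
    refine ⟨e \ dd, ?_, Or.inr (Or.inl ⟨?_, by simp [dd], by simp [dd]⟩)⟩
    · intro g hg hD
      have h3 : g • e = e := by
        rcases hmv g hg hD with h | h
        · exact h.2.2.1
        · exact h.1
      rw [Finset.smul_finset_sdiff, h3, smul_dd hg]
    · have h3 : dd ⊆ e := by
        intro x hx
        rw [dd, Finset.mem_insert, Finset.mem_singleton] at hx
        rcases hx with rfl | rfl
        · exact hen
        · exact hez
      rw [Finset.card_sdiff_of_subset h3, he]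
      rfl
  · have hcc : symmDiff e e' ∈ Cd := by
      rw [← symmDiff_cancel D e e']
      exact symmDiff_mem_supports hc hc'
    have h3 := card_symmDiff_add e e'
    have h4 : (symmDiff e e').card ≠ 0 := by
      intro h
      rw [Finset.card_eq_zero] at h
      exact heq (symmDiff_eq_bot.1 h)
    have h5 : (symmDiff e e').card = 8 := by
      rcases card_of_mem_supports hcc with h | h | h | h | h <;> (clear * - he he' h3 h4 h; omega)
    have h6 : (e ∩ e').card = 0 := by omega
    have h7 : e ∩ e' = ∅ := Finset.card_eq_zero.1 h6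
    have hn' : none ∉ e' := fun h => by
      have : (none : GolayPt) ∈ e ∩ e' := Finset.mem_inter.2 ⟨hen, h⟩
      rw [h7] at this
      simp at this
    have hz' : some 0 ∉ e := fun h => by
      have : (some 0 : GolayPt) ∈ e ∩ e' := Finset.mem_inter.2 ⟨h, hez⟩
      rw [h7] at this
      simp at this
    refine ⟨symmDiff e e', ?_, Or.inr (Or.inr (Or.inl ⟨⟨hcc, h5⟩, ?_, ?_⟩))⟩
    · intro g hg hD
      rw [Finset.smul_finset_symmDiff]
      rcases hmv g hg hD with ⟨-, -, h8, h9⟩ | ⟨h8, h9⟩
      · rw [h8, h9]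
      · rw [h8, h9, symmDiff_comm]
    · rw [Finset.mem_symmDiff]; exact Or.inl ⟨hen, hn'⟩
    · rw [Finset.mem_symmDiff]; exact Or.inr ⟨hez, hz'⟩

end Cfsg.Agent.H395.EPM
end

-- part: H395/EPM/Perm
section
/-!
# The subgroups of `M22:2` without elements of order 11
-/

set_option autoImplicit false
set_option linter.constructorNameAsVariable false

open scoped Pointwise

namespace Cfsg.Agent.H395.EPM

open Cfsg MulAction Cfsg.Agent.SporadicA.GolayBase Cfsg.Agent.H867.Max.Oct
open Cfsg.Agent.J4Type.Aut22 (D22 mem_D22_iff M22_le_D22 mem_M22_iff_D22 card_pts)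

/-- small structures -/
def Small (s : Finset GolayPt) : Prop :=
  (s.card = 1 ∧ none ∉ s ∧ some 0 ∉ s) ∨ (s.card = 2 ∧ none ∉ s ∧ some 0 ∉ s) ∨
  (s ∈ octads ∧ none ∈ s ∧ some 0 ∈ s) ∨ (s ∈ octads ∧ none ∉ s ∧ some 0 ∉ s)

theorem mem22_of_odd {g : Equiv.Perm GolayPt} (hg : g ∈ D22) (ho : Odd (orderOf g)) : g ∈ Spor.M22 := by
  obtain ⟨k, hk⟩ := ho
  have h1 : g = (g ^ (k + 1)) * (g ^ (k + 1)) := by
    have h2 : g ^ (orderOf g) = 1 := pow_orderOf_eq_one g
    rw [← pow_add, show k + 1 + (k + 1) = (2 * k + 1) + 1 by ring, pow_succ, ← hk, h2, one_mul]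
  have h3 : g ^ (k + 1) ∈ D22 := pow_mem hg _
  rw [mem_M22_iff_D22]
  refine ⟨hg, ?_⟩
  rw [h1, Equiv.Perm.mul_apply]
  rcases ((mem_D22_iff _).1 h3).2 with ⟨h4, h5⟩ | ⟨h4, h5⟩
  · rw [h4, h4]
  · rw [h4, h5]

theorem exists_of_dvd {B : Subgroup (Equiv.Perm GolayPt)} (hB : B ≤ D22) {p : ℕ} (hp : p.Prime) (h2 : p ≠ 2)
    (hd : p ∣ Nat.card B) : ∃ g ∈ B, g ∈ Spor.M22 ∧ orderOf g = p := by
  have : Fact p.Prime := ⟨hp⟩
  obtain ⟨g, hg⟩ := exists_prime_orderOf_dvd_card' (G := B) p hd
  have hg' : orderOf (g : Equiv.Perm GolayPt) = p := by rw [Subgroup.orderOf_coe]; exact hg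
  exact ⟨g, g.2, mem22_of_odd (hB g.2) (by rw [hg']; exact hp.odd_of_ne_two h2), hg'⟩

/-- **Subgroups of `M22:2`.** -/
theorem orbit_struct (B : Subgroup (Equiv.Perm GolayPt)) (hB : B ≤ D22)
    (h11 : ∀ g ∈ B, g ∈ Spor.M22 → orderOf g ≠ 11) :
    ∃ s : Finset GolayPt, (∀ g ∈ B, g • s = s) ∧ (Small s ∨
      (s ∈ octads ∧ ∃ g ∈ B, g ∈ Spor.M22 ∧ orderOf g = 7) ∨
      (s ∈ dodecads ∧ ∃ g ∈ B, g ∈ Spor.M22 ∧ orderOf g = 5)) := by
  classical
  let O : GolayPt → Finset GolayPt := fun x => (orbit B x).toFinset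
  have hO : ∀ x, (O x).card = Nat.card (orbit B x) := by
    intro x
    rw [Nat.card_eq_fintype_card, Set.toFinset_card]
  have hdvd : ∀ x, (O x).card ∣ Nat.card B := by
    intro x
    rw [hO, ← Nat.card_congr (orbitProdStabilizerEquivGroup B x), Nat.card_prod]
    exact Nat.dvd_mul_right _ _
  have hself : ∀ x, x ∈ O x := fun x => by
    rw [Set.mem_toFinset]
    exact mem_orbit_self x
  have hsub : ∀ x, x ≠ none → x ≠ some 0 → O x ⊆ ({none, some 0}ᶜ : Finset GolayPt) := by
    intro x hx hx0 y hy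
    rw [Set.mem_toFinset] at hy
    obtain ⟨g, rfl⟩ := hy
    rw [Finset.mem_compl, Finset.mem_insert, Finset.mem_singleton, not_or]
    have := (Cfsg.Agent.J4Type.Aut22.Out.apply (hB g.2) (x := x) ⟨hx, hx0⟩)
    exact ⟨this.1, this.2⟩
  have hinv : ∀ g ∈ B, ∀ x, g • O x = O x := by
    intro g hg x
    have h1 : g • O x ⊆ O x := by
      intro y hy
      rw [Finset.mem_smul_finset] at hy
      obtain ⟨z, hz, rfl⟩ := hy
      rw [Set.mem_toFinset] at hz ⊢
      exact (MulAction.mem_orbit_of_mem_orbit (⟨g, hg⟩ : B) hz)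
    exact Finset.eq_of_subset_of_card_le h1 (by rw [Finset.card_smul_finset])
  have no11 : ¬ 11 ∣ Nat.card B := by
    intro hd
    obtain ⟨g, hg, hg2, ho⟩ := exists_of_dvd hB (by norm_num) (by norm_num) hd
    exact h11 g hg hg2 ho
  -- an orbit of length at most 10
  have hsm : ∃ x, x ≠ none ∧ x ≠ some 0 ∧ (O x).card ≤ 10 := by
    by_cases h1 : (O (some 1)).card ≤ 10
    · exact ⟨some 1, by simp, by decide, h1⟩
    · have h2 := hsub (some 1) (by simp) (by decide)
      have h3 := Finset.card_le_card h2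
      rw [card_pts] at h3
      have h4 : (O (some 1)).card ≠ 11 := fun h => no11 (h ▸ hdvd (some 1))
      have h5 : (O (some 1)).card ≠ 22 := fun h => no11 ((show 11 ∣ (O (some 1)).card by rw [h]; norm_num).trans
        (hdvd (some 1)))
      have h6 : (({none, some 0}ᶜ : Finset GolayPt) \ O (some 1)).card = 22 - (O (some 1)).card := by
        rw [Finset.card_sdiff_of_subset h2, card_pts]
      have h7 : (({none, some 0}ᶜ : Finset GolayPt) \ O (some 1)).Nonempty := by
        rw [← Finset.card_pos, h6]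
        omega
      obtain ⟨y, hy⟩ := h7
      rw [Finset.mem_sdiff, Finset.mem_compl, Finset.mem_insert, Finset.mem_singleton, not_or] at hy
      refine ⟨y, hy.1.1, hy.1.2, ?_⟩
      have h8 : O y ⊆ ({none, some 0}ᶜ : Finset GolayPt) \ O (some 1) := by
        intro z hz
        rw [Finset.mem_sdiff]
        refine ⟨hsub y hy.1.1 hy.1.2 hz, fun hz1 => hy.2 ?_⟩
        rw [Set.mem_toFinset] at hz hz1 ⊢
        exact (MulAction.orbit_eq_iff.2 hz1).symm ▸ (MulAction.mem_orbit_symm.1 hz)
      have h9 := Finset.card_le_card h8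
      omega
  obtain ⟨x, hx, hx0, hc⟩ := hsm
  have hxs := hsub x hx hx0
  have hn : none ∉ O x := fun h => by
    have := hxs h
    simp at this
  have hz : some 0 ∉ O x := fun h => by
    have := hxs h
    simp at this
  obtain ⟨s, hs, hk⟩ := struct (O x) hn hz ⟨x, hself x⟩ hc
  refine ⟨s, fun g hg => hs g (hB hg) (hinv g hg x), ?_⟩
  rcases hk with h | h | h | ⟨h7, h⟩ | h | ⟨h10, h⟩
  · exact Or.inl (Or.inl h)
  · exact Or.inl (Or.inr (Or.inl h))
  · exact Or.inl (Or.inr (Or.inr (Or.inl h)))
  · exact Or.inr (Or.inl ⟨h, exists_of_dvd hB (by norm_num) (by norm_num) (h7 ▸ hdvd x)⟩)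
  · exact Or.inl (Or.inr (Or.inr (Or.inr h)))
  · exact Or.inr (Or.inr ⟨h, exists_of_dvd hB (by norm_num) (by norm_num)
      ((show 5 ∣ (O x).card by rw [h10]; norm_num).trans (hdvd x))⟩)

/-! ### The orbits of `M22` on the structures -/

theorem moves {s : Finset GolayPt} (hs : Small s ∨ s ∈ octads ∨ s ∈ dodecads) : ∃ g ∈ Spor.M22, g • s ≠ s := by
  have key : 2 < s.card → s.card < 22 → ∃ g ∈ Spor.M22, g • s ≠ s := by
    intro h1 h2
    obtain ⟨g, hg⟩ := move22 h1 h2
    exact ⟨g, g.2, hg⟩
  have small : 0 < s.card → s.card ≤ 2 → none ∉ s → some 0 ∉ s → ∃ g ∈ Spor.M22, g • s ≠ s := by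
    intro hpos h2 hn hz
    obtain ⟨x, hx⟩ := Finset.card_pos.1 hpos
    have hxo : Cfsg.Agent.J4Type.Aut22.Out x := ⟨fun h => hn (h ▸ hx), fun h => hz (h ▸ hx)⟩
    obtain ⟨y, hy, hys⟩ := Cfsg.Agent.J4Type.Aut22.exists_out s (by omega)
    obtain ⟨z, hz1, hz2⟩ := Cfsg.Agent.J4Type.Aut22.exists_out {x, y} (lt_of_le_of_lt Finset.card_le_two (by norm_num))
    rw [Finset.mem_insert, Finset.mem_singleton, not_or] at hz2
    obtain ⟨m, hm, -⟩ := Cfsg.Agent.J4Type.Aut22.exists_two hxo hz1 (Ne.symm hz2.1) hy hz1 (Ne.symm hz2.2)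
    refine ⟨m, m.2, fun h => hys ?_⟩
    rw [← h, ← hm]
    exact Finset.smul_mem_smul_finset hx
  rcases hs with (⟨h1, h2, h3⟩ | ⟨h1, h2, h3⟩ | ⟨h1, h2, h3⟩ | ⟨h1, h2, h3⟩) | h | h
  · exact small (by omega) (by omega) h2 h3
  · exact small (by omega) (by omega) h2 h3
  · have := card8 h1
    exact key (by omega) (by omega)
  · have := card8 h1
    exact key (by omega) (by omega)
  · have := card8 h
    exact key (by omega) (by omega)
  · have : s.card = 12 := h.2
    exact key (by omega) (by omega)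

theorem orb_le {s : Finset GolayPt} {T : Set (Finset GolayPt)} (hT : ∀ g ∈ Spor.M22, g • s ∈ T) :
    Nat.card (orbit Spor.M22 s) ≤ T.ncard := by
  have h1 : (orbit Spor.M22 s) ⊆ T := by
    rintro _ ⟨g, rfl⟩
    exact hT g g.2
  exact Set.ncard_le_ncard h1 (Set.toFinite _)

theorem orb_big {s : Finset GolayPt} (hs : Small s ∨ s ∈ octads ∨ s ∈ dodecads) :
    Nat.card (orbit Spor.M22 s) ≤ 2576 := by
  have m24 : ∀ g ∈ Spor.M22, g ∈ M24 := fun g hg => M24_of_22 ⟨g, hg⟩
  have hcard : ∀ k, s.card = k → Nat.card (orbit Spor.M22 s) ≤ (24).choose k := by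
    intro k hk
    refine (orb_le (T := (Finset.powersetCard k (Finset.univ : Finset GolayPt) : Set (Finset GolayPt)))
      fun g _ => ?_).trans ?_
    · rw [Finset.mem_coe, Finset.mem_powersetCard, Finset.card_smul_finset]
      exact ⟨Finset.subset_univ _, hk⟩
    · rw [Set.ncard_coe_finset, Finset.card_powersetCard, Finset.card_univ]
      exact le_of_eq (by rw [show Fintype.card GolayPt = 24 by decide])
  have hoct : s ∈ octads → Nat.card (orbit Spor.M22 s) ≤ 2576 := by
    intro h
    refine (orb_le (T := octads) fun g hg => smul_octad (m24 g hg) h).trans ?_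
    rw [S0360.result]
    norm_num
  rcases hs with (⟨h1, -⟩ | ⟨h1, -⟩ | ⟨h1, -⟩ | ⟨h1, -⟩) | h | h
  · exact (hcard 1 h1).trans (by decide)
  · exact (hcard 2 h1).trans (by decide)
  · exact hoct h1
  · exact hoct h1
  · exact hoct h
  · refine (orb_le (T := dodecads) fun g hg => ⟨smul_Cd (m24 g hg) h.1, ?_⟩).trans ?_
    · rw [Finset.card_smul_finset]; exact h.2
    · rw [S0361.result]

theorem fix22 {g : Equiv.Perm GolayPt} (hg : g ∈ Spor.M22) : g none = none ∧ g (some 0) = some 0 :=
  ⟨none_of_22 ⟨g, hg⟩, zero_of_22 ⟨g, hg⟩⟩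

theorem orb_small {s : Finset GolayPt} (hs : Small s) : Nat.card (orbit Spor.M22 s) ≤ 384 := by
  have m24 : ∀ g ∈ Spor.M22, g ∈ M24 := fun g hg => M24_of_22 ⟨g, hg⟩
  have hcard : ∀ k, s.card = k → Nat.card (orbit Spor.M22 s) ≤ (24).choose k := by
    intro k hk
    refine (orb_le (T := (Finset.powersetCard k (Finset.univ : Finset GolayPt) : Set (Finset GolayPt)))
      fun g _ => ?_).trans ?_
    · rw [Finset.mem_coe, Finset.mem_powersetCard, Finset.card_smul_finset]
      exact ⟨Finset.subset_univ _, hk⟩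
    · rw [Set.ncard_coe_finset, Finset.card_powersetCard, Finset.card_univ]
      exact le_of_eq (by rw [show Fintype.card GolayPt = 24 by decide])
  rcases hs with (⟨h1, -⟩ | ⟨h1, -⟩ | ⟨h1, h2, h3⟩ | ⟨h1, h2, h3⟩)
  · exact (hcard 1 h1).trans (by decide)
  · exact (hcard 2 h1).trans (by decide)
  · have h4 := (Cfsg.Agent.H867.Max.MTwentyTwo.hexad h1 h2 h3).2
    rw [index_stabilizer] at h4
    have h5 : Nat.card (orbit Spor.M22 s) = 77 := h4
    omega
  · -- the 330 octads
    obtain ⟨t, ht, hts⟩ : ∃ t : Finset GolayPt, t.card = 3 ∧ none ∉ t ∧ some 0 ∉ t :=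
      ⟨{some 1, some 2, some 3}, by decide, by decide, by decide⟩
    obtain ⟨o, ho, ho1, ho2, -⟩ := exists_octad ht hts.1 hts.2
    have h4 := (Cfsg.Agent.H867.Max.MTwentyTwo.hexad ho ho1 ho2).2
    rw [index_stabilizer] at h4
    have h5 : Nat.card (orbit Spor.M22 o) = 77 := h4
    have h6 : 77 ≤ {x : Finset GolayPt | x ∈ octads ∧ none ∈ x ∧ some 0 ∈ x}.ncard := by
      rw [← h5]
      refine orb_le fun g hg => ⟨smul_octad (m24 g hg) ho, ?_, ?_⟩
      · exact (mem_smul_of_fix (fix22 hg).1).2 ho1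
      · exact (mem_smul_of_fix (fix22 hg).2).2 ho2
    have h7 := (S1605.result (none : GolayPt) (some 0) (by simp)).1
    have h8 := (S1605.result (some 0 : GolayPt) none (by simp)).1
    have h9 := S0360.result
    have h10 : Nat.card (orbit Spor.M22 s) ≤ {x : Finset GolayPt | x ∈ octads ∧ none ∉ x ∧ some 0 ∉ x}.ncard := by
      refine orb_le fun g hg => ⟨smul_octad (m24 g hg) h1, ?_, ?_⟩
      · exact fun h => h2 ((mem_smul_of_fix (fix22 hg).1).1 h)
      · exact fun h => h3 ((mem_smul_of_fix (fix22 hg).2).1 h)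
    have e1 : octads = ({x : Finset GolayPt | x ∈ octads ∧ none ∈ x ∧ some 0 ∈ x} ∪
        {x : Finset GolayPt | x ∈ octads ∧ none ∉ x ∧ some 0 ∉ x}) ∪
        ({x : Finset GolayPt | x ∈ octads ∧ none ∈ x ∧ some 0 ∉ x} ∪
        {x : Finset GolayPt | x ∈ octads ∧ some 0 ∈ x ∧ none ∉ x}) := by
      ext x
      simp only [Set.mem_union, Set.mem_setOf_eq]
      (clear * -; tauto)
    rw [e1, Set.ncard_union_eq, Set.ncard_union_eq, Set.ncard_union_eq, h7, h8] at h9
    · omega
    · rw [Set.disjoint_left]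
      rintro x ⟨-, a1, a2⟩ ⟨-, b1, b2⟩
      exact a2 b1
    · rw [Set.disjoint_left]
      rintro x ⟨-, a1, a2⟩ ⟨-, b1, b2⟩
      exact b1 a1
    · rw [Set.disjoint_left]
      rintro x (⟨-, a1, a2⟩ | ⟨-, a1, a2⟩) (⟨-, b1, b2⟩ | ⟨-, b1, b2⟩)
      · exact b2 a2
      · exact b2 a1
      · exact a1 b1
      · exact a2 b1

end Cfsg.Agent.H395.EPM
end

private theorem dce_a826769673d9 : _root_.True := by
  try have : _root_.True := by simp only [_root_.Cfsg.Agent.H395.EPM.Sm.eq_1]
  try have : _root_.True := by simp only [_root_.Cfsg.Agent.H395.EPM.dd.eq_1]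
  exact _root_.True.intro
end

-- part: H829/S8/Idx22
section
prune_inst 0x10444024000000001800002000002030000100000000000000000001010040200100010240010010c000400040c02015003444621000000a008200002406090428102000101c00210000409081180c00000000000000000000000000000000200400000
set_option linter.all false
open scoped Cfsg.Agent.FastGrp

/-!
# S4908, `M22`, FROB (B): the subgroups of index 22 of `M22` are the point stabilisers (helper829)
-/

set_option autoImplicit false

namespace Cfsg.Agent.H829.S8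

open Cfsg MulAction Finset
open Cfsg.Agent.H334.Ore.Mat Cfsg.Agent.H334.Ore.M22Data Cfsg.Agent.H729.M22Deg
open Cfsg.Agent.SporadicStructure.M24El Cfsg.Agent.H867.Max.Oct

theorem fc_le : ∀ r ∈ D, fc r.c 1 ≤ 8 := by decide +kernel

/-- an element `≠ 1` fixes at most eight of the 24 points -/
theorem fx_le (g : Spor.M22) (hg : g ≠ 1) : fx (inc g) ≤ 8 := by
  rcases Cfsg.Agent.H334.Ore.M22.cov g with h | ⟨r, hr, x, hx, hc⟩
  · exact absurd h hg
  · obtain ⟨c, hc⟩ := isConj_iff.1 hc
    rw [← hc, map_mul, map_mul, map_inv, fx_conj, hx]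
    have h1 := Cfsg.Agent.H334.Ore.M22.hA' r hr
    unfold chkA at h1
    rw [Bool.and_eq_true] at h1
    have h2 := fx_pow (inG_iff h1.1).1 1
    rw [pow_one] at h2
    rw [h2]
    exact fc_le r hr

/-- fixed points of a permutation of prime order on an invariant set -/
theorem count_mod {α : Type*} [DecidableEq α] {p : ℕ} [Fact p.Prime] (σ : Equiv.Perm α) (h : σ ^ p = 1) (A : Finset α)
    (hA : ∀ a ∈ A, σ a ∈ A) : A.card ≡ (A.filter fun a => σ a = a).card [MOD p] := by
  let f : Function.End {a // a ∈ A} := fun a => ⟨σ a, hA a a.2⟩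
  have hf : ∀ (n : ℕ) (a : {a // a ∈ A}), (((f ^ n : Function.End {a // a ∈ A}) a : {a // a ∈ A}) : α) = (σ ^ n) a := by
    intro n
    induction n with
    | zero => intro a; rfl
    | succ n ih =>
      intro a
      rw [pow_succ' f, pow_succ' σ, Equiv.Perm.mul_apply, ← ih]
      rfl
  have hfp : f ^ p ^ 1 = 1 := by
    funext a
    apply Subtype.ext
    rw [hf, pow_one, h]
    rfl
  have hmod := Equiv.Perm.card_fixedPoints_modEq (f := f) (p := p) (n := 1) hfp
  have h1 : Fintype.card {a // a ∈ A} = A.card := Fintype.card_coe A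
  have h2 : Fintype.card (Function.fixedPoints f) = (A.filter fun a => σ a = a).card := by
    rw [← Fintype.card_coe]
    refine Fintype.card_congr
      { toFun := fun a => ⟨a.1.1, Finset.mem_filter.2 ⟨a.1.2, congrArg Subtype.val a.2⟩⟩
        invFun := fun a => ⟨⟨a.1, (Finset.mem_filter.1 a.2).1⟩, Subtype.ext (Finset.mem_filter.1 a.2).2⟩
        left_inv := fun _ => rfl
        right_inv := fun _ => rfl }
  rw [h1, h2] at hmod
  exact hmod

theorem index_stab (p : GolayPt) (h1 : p ≠ none) (h2 : p ≠ some 0) : (stabilizer Spor.M22 p).index = 22 := by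
  have h := Cfsg.Agent.H867.Max.MTwentyTwo.point.2
  have e : orbit Spor.M22 p = orbit Spor.M22 (some 1 : GolayPt) := by
    rw [MulAction.orbit_eq_iff]
    by_cases hp : p = some 1
    · rw [hp]
      exact mem_orbit_self _
    · obtain ⟨g, hg, g1, g2, g3, -⟩ := map4 (a := none) (b := some 0) (c := some 1) (d := p)
        (a' := none) (b' := some 0) (c' := p) (d' := some 1) (by simp) (by simp) (Ne.symm h1)
        (by decide) (Ne.symm h2) (Ne.symm hp) (by simp) (Ne.symm h1) (by simp)
        (Ne.symm h2) (by decide) hp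
      exact ⟨mk22 g hg g1 g2, g3⟩
  rw [index_stabilizer, e, ← index_stabilizer]
  exact h

/-- **the subgroups of index 22 of `M22` are the stabilisers of the points** -/
theorem idx22 (T : Subgroup Spor.M22) (h : T.index = 22) :
    ∃ p : GolayPt, p ≠ none ∧ p ≠ some 0 ∧ T = MulAction.stabilizer Spor.M22 p := by
  classical
  have hfin := Cfsg.Agent.H867.Max.MTwentyTwo.fin_G
  have hG := Cfsg.Agent.H867.Max.MTwentyTwo.card_G
  have hT : Nat.card T = 20160 := by
    have h1 := T.card_mul_index
    rw [h, hG] at h1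
    omega
  -- `σ t` : the permutation of the 24 points
  have hfx : ∀ t : Spor.M22, t ≠ 1 → (univ.filter fun q : GolayPt => (t : Equiv.Perm GolayPt) q = q).card ≤ 8 :=
    fun t ht => fx_le t ht
  have hpow : ∀ (t : Spor.M22) (n : ℕ), t ^ n = 1 → (t : Equiv.Perm GolayPt) ^ n = 1 := by
    intro t n htn
    rw [← Subgroup.coe_pow, htn]
    rfl
  have hc24 : (univ : Finset GolayPt).card = 24 := by decide
  have h7 : Fact (Nat.Prime 7) := ⟨by norm_num⟩
  have h5 : Fact (Nat.Prime 5) := ⟨by norm_num⟩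
  obtain ⟨z, hz⟩ := exists_prime_orderOf_dvd_card' (G := T) 7 (by rw [hT]; norm_num)
  obtain ⟨f, hf⟩ := exists_prime_orderOf_dvd_card' (G := T) 5 (by rw [hT]; norm_num)
  have hz1 : (z : Spor.M22) ≠ 1 := by
    intro h1
    have h2 : z = 1 := Subtype.ext h1
    rw [h2, orderOf_one] at hz
    omega
  have hf1 : (f : Spor.M22) ≠ 1 := by
    intro h1
    have h2 : f = 1 := Subtype.ext h1
    rw [h2, orderOf_one] at hf
    omega
  have hzp : ((z : Spor.M22) : Equiv.Perm GolayPt) ^ 7 = 1 := by
    apply hpow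
    rw [← Subgroup.coe_pow, ← hz, pow_orderOf_eq_one]
    rfl
  have hfp : ((f : Spor.M22) : Equiv.Perm GolayPt) ^ 5 = 1 := by
    apply hpow
    rw [← Subgroup.coe_pow, ← hf, pow_orderOf_eq_one]
    rfl
  obtain ⟨Fz, hFz⟩ : ∃ Fz : Finset GolayPt, Fz = univ.filter fun q => ((z : Spor.M22) : Equiv.Perm GolayPt) q = q :=
    ⟨_, rfl⟩
  have hFz3 : Fz.card = 3 := by
    have h1 := count_mod (p := 7) _ hzp univ fun _ _ => mem_univ _
    have h2 := hfx z hz1
    rw [← hFz] at h1 h2
    rw [hc24] at h1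
    unfold Nat.ModEq at h1
    omega
  have hFf4 : (univ.filter fun q => ((f : Spor.M22) : Equiv.Perm GolayPt) q = q).card = 4 := by
    have h1 := count_mod (p := 5) _ hfp univ fun _ _ => mem_univ _
    have h2 := hfx f hf1
    rw [hc24] at h1
    unfold Nat.ModEq at h1
    omega
  -- the point
  obtain ⟨p, hpF, hpn, hp0⟩ : ∃ p ∈ Fz, p ≠ none ∧ p ≠ some 0 := by
    by_contra hcon
    push Not at hcon
    have h1 : Fz ⊆ {none, some 0} := by
      intro q hq
      by_cases hq1 : q = none
      · rw [hq1]; simp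
      · rw [hcon q hq hq1]; simp
    have h2 := card_le_card h1
    have h3 : ({none, some 0} : Finset GolayPt).card = 2 := by decide
    omega
  have hnF : none ∈ Fz := by
    rw [hFz]
    exact mem_filter.2 ⟨mem_univ _, none_of_22 z⟩
  have h0F : some 0 ∈ Fz := by
    rw [hFz]
    exact mem_filter.2 ⟨mem_univ _, zero_of_22 z⟩
  have hFeq : Fz = {none, some 0, p} := by
    symm
    apply eq_of_subset_of_card_le
    · intro q hq
      simp only [mem_insert, mem_singleton] at hq
      rcases hq with rfl | rfl | rfl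
      · exact hnF
      · exact h0F
      · exact hpF
    · rw [hFz3]
      have h1 : ({none, some 0, p} : Finset GolayPt).card = 3 :=
        card_eq_three.2 ⟨none, some 0, p, by simp, Ne.symm hpn, Ne.symm hp0, rfl⟩
      omega
  refine ⟨p, hpn, hp0, ?_⟩
  -- the orbit
  obtain ⟨O, hO⟩ : ∃ O : Finset GolayPt, O = univ.filter fun q => q ∈ orbit ↥T p := ⟨_, rfl⟩
  have hmO : ∀ q, q ∈ O ↔ q ∈ orbit ↥T p := fun q => by rw [hO]; simp
  have hOT : ∀ (t : T) (q : GolayPt), q ∈ O → ((t : Spor.M22) : Equiv.Perm GolayPt) q ∈ O := by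
    intro t q hq
    rw [hmO] at hq ⊢
    exact (smul_orbit_subset t p) ⟨q, hq, rfl⟩
  have hpO : p ∈ O := (hmO p).2 (mem_orbit_self p)
  have hnO : none ∉ O := by
    intro h1
    obtain ⟨t, ht⟩ := (hmO none).1 h1
    have h2 : ((t : Spor.M22) : Equiv.Perm GolayPt) p = none := ht
    have h3 : ((t : Spor.M22) : Equiv.Perm GolayPt) none = none := none_of_22 t
    exact hpn (((t : Spor.M22) : Equiv.Perm GolayPt).injective (h2.trans h3.symm))
  have h0O : some 0 ∉ O := by
    intro h1
    obtain ⟨t, ht⟩ := (hmO (some 0)).1 h1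
    have h2 : ((t : Spor.M22) : Equiv.Perm GolayPt) p = some 0 := ht
    have h3 : ((t : Spor.M22) : Equiv.Perm GolayPt) (some 0) = some 0 := zero_of_22 t
    exact hp0 (((t : Spor.M22) : Equiv.Perm GolayPt).injective (h2.trans h3.symm))
  have hOdvd : O.card ∣ 20160 := by
    have h1 : (stabilizer T p).index = O.card := by
      rw [index_stabilizer, ← Set.ncard_coe_finset]
      congr 1
      ext q
      rw [Finset.mem_coe, hmO]
    rw [← h1, ← hT]
    exact Subgroup.index_dvd_card _
  have hO22 : O.card ≤ 22 := by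
    have h1 : O ⊆ univ \ {none, some 0} := by
      intro q hq
      rw [mem_sdiff]
      refine ⟨mem_univ _, fun h2 => ?_⟩
      simp only [mem_insert, mem_singleton] at h2
      rcases h2 with rfl | rfl
      · exact hnO hq
      · exact h0O hq
    have h2 := card_le_card h1
    have h3 : ((univ : Finset GolayPt) \ {none, some 0}).card = 22 := by decide
    omega
  have hO7 : O.card % 7 = 1 := by
    have h1 := count_mod (p := 7) _ hzp O fun q hq => hOT z q hq
    have h2 : (O.filter fun q => ((z : Spor.M22) : Equiv.Perm GolayPt) q = q) = {p} := by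
      ext q
      rw [mem_filter, mem_singleton]
      constructor
      · rintro ⟨hq1, hq2⟩
        have h3 : q ∈ Fz := by
          rw [hFz]
          exact mem_filter.2 ⟨mem_univ _, hq2⟩
        rw [hFeq] at h3
        simp only [mem_insert, mem_singleton] at h3
        rcases h3 with rfl | rfl | rfl
        · exact absurd hq1 hnO
        · exact absurd hq1 h0O
        · rfl
      · rintro rfl
        refine ⟨hpO, ?_⟩
        rw [hFz] at hpF
        exact (mem_filter.1 hpF).2
    rw [h2, card_singleton] at h1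
    exact h1
  have hO5 : O.card % 5 ≤ 2 := by
    have h1 : O.card ≡ (O.filter fun q => ((f : Spor.M22) : Equiv.Perm GolayPt) q = q).card [MOD 5] := by
      convert count_mod (p := 5) _ hfp O fun q hq => hOT f q hq
    have h2 : (O.filter fun q => ((f : Spor.M22) : Equiv.Perm GolayPt) q = q).card + 2 ≤ 4 := by
      rw [← hFf4]
      have h3 : insert none (insert (some 0) (O.filter fun q => ((f : Spor.M22) : Equiv.Perm GolayPt) q = q)) ⊆
          univ.filter fun q => ((f : Spor.M22) : Equiv.Perm GolayPt) q = q := by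
        intro q hq
        simp only [mem_insert] at hq
        rcases hq with rfl | rfl | hq
        · exact mem_filter.2 ⟨mem_univ _, none_of_22 f⟩
        · exact mem_filter.2 ⟨mem_univ _, zero_of_22 f⟩
        · exact mem_filter.2 ⟨mem_univ _, (mem_filter.1 hq).2⟩
      have h4 := card_le_card h3
      rw [card_insert_of_notMem, card_insert_of_notMem] at h4
      · exact h4
      · intro h5
        exact h0O (mem_filter.1 h5).1
      · rw [mem_insert]
        rintro (h5 | h5)
        · exact absurd h5 (by simp)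
        · exact hnO (mem_filter.1 h5).1
    unfold Nat.ModEq at h1
    rw [h1]
    exact (Nat.mod_le _ _).trans (by omega)
  have hOpos : 0 < O.card := card_pos.2 ⟨p, hpO⟩
  have hcases : O.card = 1 ∨ O.card = 15 := by
    have h1 : O.card = 1 ∨ O.card = 8 ∨ O.card = 15 ∨ O.card = 22 := by omega
    rcases h1 with h1 | h1 | h1 | h1
    · exact Or.inl h1
    · rw [h1] at hO5; omega
    · exact Or.inr h1
    · rw [h1] at hOdvd
      exact absurd hOdvd (by norm_num)
  have hO1 : O.card = 1 := by
    rcases hcases with h1 | h1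
    · exact h1
    · exfalso
      obtain ⟨R, hR⟩ : ∃ R : Finset GolayPt, R = univ \ (insert none (insert (some 0) O)) := ⟨_, rfl⟩
      have hRc : R.card = 7 := by
        rw [hR, card_sdiff_of_subset (subset_univ _), hc24, card_insert_of_notMem, card_insert_of_notMem h0O, h1]
        rw [mem_insert]
        rintro (h5 | h5)
        · exact absurd h5 (by simp)
        · exact hnO h5
      have hRm : ∀ q, q ∈ R ↔ q ≠ none ∧ q ≠ some 0 ∧ q ∉ O := by
        intro q
        rw [hR, mem_sdiff, mem_insert, mem_insert]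
        simp
      have hRT : ∀ (t : T) (q : GolayPt), q ∈ R → ((t : Spor.M22) : Equiv.Perm GolayPt) q ∈ R := by
        intro t q hq
        rw [hRm] at hq ⊢
        obtain ⟨q1, q2, q3⟩ := hq
        refine ⟨fun h2 => q1 ?_, fun h2 => q2 ?_, fun h2 => q3 ?_⟩
        · exact ((t : Spor.M22) : Equiv.Perm GolayPt).injective (h2.trans (none_of_22 t).symm)
        · exact ((t : Spor.M22) : Equiv.Perm GolayPt).injective (h2.trans (zero_of_22 t).symm)
        · have h3 := hOT t⁻¹ _ h2
          have h4 : ((t⁻¹ : T) : Spor.M22) = (t : Spor.M22)⁻¹ := rfl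
          have h5 : ((((t⁻¹ : T) : Spor.M22)) : Equiv.Perm GolayPt) (((t : Spor.M22) : Equiv.Perm GolayPt) q) = q := by
            rw [h4, Subgroup.coe_inv]
            exact Equiv.symm_apply_apply _ q
          rw [h5] at h3
          exact h3
      let φ : T → (R → R) := fun t q => ⟨((t : Spor.M22) : Equiv.Perm GolayPt) q, hRT t q q.2⟩
      have hφi : ∀ t, Function.Injective (φ t) := by
        intro t a b hab
        exact Subtype.ext (((t : Spor.M22) : Equiv.Perm GolayPt).injective (congrArg Subtype.val hab))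
      let ψ : T → (R ↪ R) := fun t => ⟨φ t, hφi t⟩
      have hni : ¬ Function.Injective ψ := by
        intro hinj
        have h2 := Nat.card_le_card_of_injective ψ hinj
        rw [hT, Nat.card_eq_fintype_card, Fintype.card_embedding_eq, Fintype.card_coe, hRc] at h2
        revert h2
        decide
      apply hni
      intro s t hst
      by_contra hne
      have h2 : (s : Spor.M22) * (t : Spor.M22)⁻¹ ≠ 1 := by
        intro h3
        exact hne (Subtype.ext (mul_inv_eq_one.1 h3))
      have h3 : (t : Spor.M22)⁻¹ * (s : Spor.M22) ≠ 1 := by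
        intro h4
        exact hne (Subtype.ext (inv_mul_eq_one.1 h4).symm)
      have h4 := hfx _ h3
      have h5 : insert none (insert (some 0) R) ⊆ univ.filter fun q =>
          (((t : Spor.M22)⁻¹ * (s : Spor.M22) : Spor.M22) : Equiv.Perm GolayPt) q = q := by
        intro q hq
        rw [mem_filter]
        refine ⟨mem_univ _, ?_⟩
        simp only [mem_insert] at hq
        rcases hq with rfl | rfl | hq
        · exact none_of_22 _
        · exact zero_of_22 _
        · have h6 : ((s : Spor.M22) : Equiv.Perm GolayPt) q = ((t : Spor.M22) : Equiv.Perm GolayPt) q := by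
            have h7 := congrArg (fun e : R ↪ R => ((e ⟨q, hq⟩ : R) : GolayPt)) hst
            exact h7
          show (((t : Spor.M22)⁻¹ : Spor.M22) : Equiv.Perm GolayPt) (((s : Spor.M22) : Equiv.Perm GolayPt) q) = q
          rw [h6, Subgroup.coe_inv]
          exact Equiv.symm_apply_apply _ q
      have h6 := card_le_card h5
      rw [card_insert_of_notMem, card_insert_of_notMem, hRc] at h6
      · omega
      · intro h7
        exact ((hRm _).1 h7).2.1 rfl
      · rw [mem_insert]
        rintro (h7 | h7)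
        · exact absurd h7 (by simp)
        · exact ((hRm _).1 h7).1 rfl
  -- conclusion
  have hle : T ≤ stabilizer Spor.M22 p := by
    intro t ht
    obtain ⟨a, ha⟩ := card_eq_one.1 hO1
    have h1 := hOT ⟨t, ht⟩ p hpO
    rw [ha, mem_singleton] at h1 hpO
    show (t : Equiv.Perm GolayPt) p = p
    exact h1.trans hpO.symm
  apply Subgroup.eq_of_le_of_card_ge hle
  have h1 := (stabilizer Spor.M22 p).card_mul_index
  rw [index_stab p hpn hp0, hG] at h1
  omega

end Cfsg.Agent.H829.S8
end

-- part: H25/S8/Norm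
section
prune_inst 0x100040000000000000000000000000000001000000000020000000000000008000000000000000100018000000802015003444201000002000820000240609042830e000101c0001000040f881180c00000000000000000000000000000000200400000
set_option linter.all false
open scoped Cfsg.Agent.FastGrp

/-!
# No 3-subgroup of order `3 ^ 11` is normalised by an element of order 23 (helper25, S4908, row B)

Abstract part: `|C(y)| = 46`, `|N(⟨y⟩)| = 11 * 46`, no element of order 3 whose centralizer has order divisible by `3 ^ 11`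
commutes with an element of order 11.
-/

set_option autoImplicit false

namespace Cfsg.Agent.H25.S8

open Subgroup

universe u

set_option linter.unusedSectionVars false

variable {G : Type u} [Group G] [Finite G]

/-- The fixed points of an element of prime order `r` normalising a finite subgroup `Q`. -/
theorem card_modEq {r : ℕ} (hr : r.Prime) {x : G} (hx : orderOf x = r) (Q : Subgroup G)
    (hQ : x ∈ normalizer (Q : Set G)) :
    Nat.card Q ≡ Nat.card ↥(Q ⊓ centralizer ({x} : Set G)) [MOD r] := by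
  have : Fact r.Prime := ⟨hr⟩
  have hZ : zpowers x ≤ normalizer (Q : Set G) := by rwa [zpowers_le]
  let f : zpowers x →* MulAut Q := Q.normalizerMonoidHom.comp (inclusion hZ)
  let _ : MulAction (zpowers x) Q := MulAction.compHom Q f
  have hf : ∀ (z : zpowers x) (y : Q), ((z • y : Q) : G) = z * y * (z : G)⁻¹ := by
    intro z y
    rfl
  have hp : IsPGroup r (zpowers x) := IsPGroup.of_card (n := 1) (by rw [Nat.card_zpowers, hx, pow_one])
  have h1 := hp.card_modEq_card_fixedPoints Q
  refine h1.trans ?_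
  have h2 : Nat.card (MulAction.fixedPoints (zpowers x) Q) = Nat.card ↥(Q ⊓ centralizer ({x} : Set G)) := by
    apply Nat.card_congr
    refine ⟨fun y => ⟨y.1, y.1.2, ?_⟩, fun y => ⟨⟨y.1, y.2.1⟩, ?_⟩, fun y => rfl, fun y => rfl⟩
    · have h3 := congrArg Subtype.val (y.2 ⟨x, mem_zpowers x⟩)
      rw [hf] at h3
      change (y.1 : G) ∈ centralizer ({x} : Set G)
      rw [mem_centralizer_singleton_iff]
      exact (mul_inv_eq_iff_eq_mul.1 h3).symm
    · rintro ⟨z, hz⟩
      obtain ⟨k, rfl⟩ := mem_zpowers_iff.1 hz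
      apply Subtype.ext
      rw [hf]
      have h3 : (y.1 : G) ∈ centralizer ({x} : Set G) := y.2.2
      rw [mem_centralizer_singleton_iff] at h3
      have h4 : Commute (x ^ k) (y.1 : G) := (show Commute x (y.1 : G) from h3.symm).zpow_left k
      change x ^ k * (y.1 : G) * (x ^ k)⁻¹ = _
      rw [h4.eq, mul_assoc, mul_inv_cancel, mul_one]
  rw [h2]

/-- a 3-subgroup normalised by `y`, `|y| = 23`, `|C(y)| = 46`, has order `1 mod 23` -/
theorem card_mod23 {y : G} (hy : orderOf y = 23) (hC : Nat.card (centralizer ({y} : Set G)) = 46) {Q : Subgroup G}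
    {k : ℕ} (hQ : Nat.card Q = 3 ^ k) (hyQ : y ∈ normalizer (Q : Set G)) : 3 ^ k % 23 = 1 := by
  have h1 := card_modEq (by norm_num) hy Q hyQ
  have h2 : Nat.card ↥(Q ⊓ centralizer ({y} : Set G)) = 1 := by
    have h3 : Nat.card ↥(Q ⊓ centralizer ({y} : Set G)) ∣ 3 ^ k := hQ ▸ card_dvd_of_le inf_le_left
    have h4 : Nat.card ↥(Q ⊓ centralizer ({y} : Set G)) ∣ 46 := hC ▸ card_dvd_of_le inf_le_right
    exact Nat.eq_one_of_dvd_coprimes (Nat.Coprime.pow_left k (by norm_num : Nat.Coprime 3 46)) h3 h4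
  rw [hQ, h2] at h1
  exact h1

theorem pow_mod {k : ℕ} (hk : k ≤ 13) (h : 3 ^ k % 23 = 1) : k = 0 ∨ k = 11 := by
  interval_cases k <;> simp_all

/-- `V` with `|V| = 3 ^ 11` normalised by `y` is abelian -/
theorem comm_V {y : G} (hy : orderOf y = 23) (hC : Nat.card (centralizer ({y} : Set G)) = 46) {V : Subgroup G}
    (hV : Nat.card V = 3 ^ 11) (hyV : y ∈ normalizer (V : Set G)) : ∀ a ∈ V, ∀ b ∈ V, a * b = b * a := by
  have : Fact (Nat.Prime 3) := ⟨Nat.prime_three⟩
  have hVp : IsPGroup 3 V := IsPGroup.of_card hV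
  set Z : Subgroup G := (center V).map V.subtype with hZ
  have hyZ : y ∈ normalizer (Z : Set G) := by
    have hmem : ∀ g : G, g ∈ normalizer (V : Set G) → ∀ z ∈ Z, g * z * g⁻¹ ∈ Z := by
      rintro g hg _ ⟨z, hz, rfl⟩
      have h1 : g * (z : G) * g⁻¹ ∈ V := (mem_normalizer_iff.1 hg z).1 z.2
      refine ⟨⟨g * z * g⁻¹, h1⟩, ?_, rfl⟩
      rw [SetLike.mem_coe, mem_center_iff]
      intro v
      have h2 : g⁻¹ * (v : G) * g ∈ V := by
        have := (mem_normalizer_iff.1 (inv_mem hg) v).1 v.2
        rwa [inv_inv] at this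
      have h3 := congrArg Subtype.val (mem_center_iff.1 hz ⟨g⁻¹ * v * g, h2⟩)
      apply Subtype.ext
      change (v : G) * (g * z * g⁻¹) = g * z * g⁻¹ * v
      have h4 : g⁻¹ * (v : G) * g * z = z * (g⁻¹ * v * g) := h3
      calc (v : G) * (g * z * g⁻¹) = g * (g⁻¹ * v * g * z) * g⁻¹ := by group
        _ = g * (z * (g⁻¹ * v * g)) * g⁻¹ := by rw [h4]
        _ = _ := by group
    rw [mem_normalizer_iff]
    intro z
    refine ⟨hmem y hyV z, fun h => ?_⟩
    have := hmem y⁻¹ (inv_mem hyV) _ h
    rw [inv_inv] at this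
    convert this using 1
    group
  have hZc : Nat.card Z = Nat.card (center V) := Nat.card_congr ((center V).equivMapOfInjective _ V.subtype_injective).toEquiv.symm
  obtain ⟨k, hk⟩ := IsPGroup.iff_card.1 (hVp.to_subgroup (center V))
  have hnt : Nontrivial V := by
    rw [← Finite.one_lt_card_iff_nontrivial, hV]
    norm_num
  have hk0 : k ≠ 0 := by
    rintro rfl
    have h1 : 1 < Nat.card (center V) := Finite.one_lt_card_iff_nontrivial.2 hVp.center_nontrivial
    rw [hk] at h1
    norm_num at h1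
  have hk11 : k ≤ 11 := by
    have h1 := (center V).card_subgroup_dvd_card
    rw [hk, hV] at h1
    exact (Nat.pow_dvd_pow_iff_le_right (by norm_num)).1 h1
  have h1 := card_mod23 hy hC (hZc.trans hk) hyZ
  have h2 : k = 11 := (pow_mod (by omega) h1).resolve_left hk0
  have h3 : center V = ⊤ := by
    apply Subgroup.eq_top_of_card_eq
    rw [hk, h2, hV]
  intro a ha b hb
  have h4 : (⟨b, hb⟩ : V) ∈ center V := h3 ▸ mem_top _
  exact congrArg Subtype.val (mem_center_iff.1 h4 ⟨a, ha⟩)

/-- the normalizer of `V` has no element of order 11 -/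
theorem no_eleven {V : Subgroup G} (hV : Nat.card V = 3 ^ 11) (hab : ∀ a ∈ V, ∀ b ∈ V, a * b = b * a)
    (hNC : ∀ v u : G, orderOf v = 3 → orderOf u = 11 → v * u = u * v →
      ¬ 3 ^ 11 ∣ Nat.card (centralizer ({v} : Set G))) {u : G} (hu : orderOf u = 11)
    (huV : u ∈ normalizer (V : Set G)) : False := by
  have : Fact (Nat.Prime 3) := ⟨Nat.prime_three⟩
  have h1 := card_modEq (by norm_num) hu V huV
  have hd : Nat.card ↥(V ⊓ centralizer ({u} : Set G)) ∣ 3 ^ 11 := hV ▸ card_dvd_of_le inf_le_left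
  obtain ⟨k, -, hk⟩ := (Nat.dvd_prime_pow Nat.prime_three).1 hd
  have hk0 : k ≠ 0 := by
    rintro rfl
    rw [hV, hk] at h1
    exact absurd h1 (by decide)
  have h3 : 3 ∣ Nat.card ↥(V ⊓ centralizer ({u} : Set G)) := hk ▸ dvd_pow_self 3 hk0
  obtain ⟨v, hv⟩ := exists_prime_orderOf_dvd_card' 3 h3
  have hvV : (v : G) ∈ V := v.2.1
  have hvu : (v : G) ∈ centralizer ({u} : Set G) := v.2.2
  rw [mem_centralizer_singleton_iff] at hvu
  refine hNC v u (by rw [Subgroup.orderOf_coe, hv]) hu hvu ?_
  rw [← hV]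
  apply card_dvd_of_le
  intro a ha
  rw [mem_centralizer_singleton_iff]
  exact hab a ha v hvV

/-- an element of `N(⟨y⟩)` of order prime to 11 centralises `y` -/
theorem mem_cent {y : G} (hC : Nat.card (centralizer ({y} : Set G)) = 46)
    (hN : Nat.card (normalizer ((zpowers y : Subgroup G) : Set G)) = 11 * 46) {g : G}
    (hg : g ∈ normalizer ((zpowers y : Subgroup G) : Set G)) (h11 : ¬ 11 ∣ orderOf g) :
    g ∈ centralizer ({y} : Set G) := by
  set N := normalizer ((zpowers y : Subgroup G) : Set G)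
  have hCN : centralizer ({y} : Set G) ≤ N := by
    intro c hc
    rw [mem_centralizer_singleton_iff] at hc
    have hmem : ∀ d : G, d * y = y * d → ∀ z ∈ zpowers y, d * z * d⁻¹ ∈ zpowers y := by
      intro d hd z hz
      obtain ⟨k, rfl⟩ := mem_zpowers_iff.1 hz
      have h1 : d * y ^ k = y ^ k * d := ((show Commute d y from hd).zpow_right k).eq
      rw [h1, mul_inv_cancel_right]
      exact hz
    refine mem_normalizer_iff.2 fun z => ⟨hmem c hc z, fun h => ?_⟩
    have h2 := hmem c⁻¹ ((show Commute c y from hc).inv_left).eq _ h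
    rw [inv_inv] at h2
    convert h2 using 1
    group
  set C := (centralizer ({y} : Set G)).subgroupOf N with hCdef
  have hCc : Nat.card C = 46 := by
    rw [hCdef, Nat.card_congr (subgroupOfEquivOfLe hCN).toEquiv, hC]
  have hCn : C.Normal := by
    constructor
    intro c hc n
    rw [hCdef, mem_subgroupOf, mem_centralizer_singleton_iff] at hc ⊢
    have h1 : ((n : G))⁻¹ * y * n ∈ zpowers y := by
      have h2 := (mem_normalizer_iff.1 (inv_mem n.2) y).1 (mem_zpowers y)
      rwa [inv_inv] at h2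
    obtain ⟨k, hk⟩ := mem_zpowers_iff.1 h1
    have h3 : Commute (c : G) y := hc
    have h4 : (c : G) * ((n : G)⁻¹ * y * n) = ((n : G)⁻¹ * y * n) * c := by
      rw [← hk]
      exact (h3.zpow_right k).eq
    change (n : G) * c * (n : G)⁻¹ * y = y * ((n : G) * c * (n : G)⁻¹)
    calc (n : G) * c * (n : G)⁻¹ * y = n * (c * ((n : G)⁻¹ * y * n)) * (n : G)⁻¹ := by group
      _ = n * (((n : G)⁻¹ * y * n) * c) * (n : G)⁻¹ := by rw [h4]
      _ = _ := by group
  have hidx : C.index = 11 := by
    have h1 := C.card_mul_index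
    rw [hCc, hN] at h1
    omega
  have h1 : (⟨g, hg⟩ : N) ^ 11 ∈ C := by
    rw [← hidx]
    exact C.pow_index_mem _
  have hcop : Nat.Coprime 11 (orderOf g) := (Nat.Prime.coprime_iff_not_dvd (by norm_num)).2 h11
  obtain ⟨m, hm1, hm2⟩ := Nat.chineseRemainder hcop 0 1
  have h2 : (⟨g, hg⟩ : N) ^ m ∈ C := by
    obtain ⟨c, rfl⟩ := (Nat.modEq_zero_iff_dvd).1 hm1
    rw [pow_mul]
    exact pow_mem h1 c
  rw [hCdef, mem_subgroupOf] at h2
  have h3 : g ^ m = g := by
    conv_rhs => rw [← pow_one g]
    exact pow_eq_pow_iff_modEq.2 hm2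
  change g ^ m ∈ _ at h2
  rwa [h3] at h2

/-- **Main lemma.** -/
theorem no_V (h14 : ¬ 3 ^ 14 ∣ Nat.card G) (h13 : 3 ^ 13 ∣ Nat.card G) (h529 : ¬ 23 ^ 2 ∣ Nat.card G)
    (hC : ∀ y : G, orderOf y = 23 → Nat.card (centralizer ({y} : Set G)) = 46)
    (hN : ∀ y : G, orderOf y = 23 → Nat.card (normalizer ((zpowers y : Subgroup G) : Set G)) = 11 * 46)
    (hNC : ∀ v u : G, orderOf v = 3 → orderOf u = 11 → v * u = u * v →
      ¬ 3 ^ 11 ∣ Nat.card (centralizer ({v} : Set G)))
    {y : G} (hy : orderOf y = 23) {V : Subgroup G} (hV : Nat.card V = 3 ^ 11) (hyV : y ∈ normalizer (V : Set G)) :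
    False := by
  have f3 : Fact (Nat.Prime 3) := ⟨Nat.prime_three⟩
  have f23 : Fact (Nat.Prime 23) := ⟨by norm_num⟩
  have hab := comm_V hy (hC y hy) hV hyV
  set M : Subgroup G := normalizer (V : Set G) with hM
  have h11 : ∀ g ∈ M, ¬ 11 ∣ orderOf g := by
    intro g hg hd
    have ho : orderOf (g ^ (orderOf g / 11)) = 11 := orderOf_pow_orderOf_div (orderOf_pos g).ne' hd
    exact no_eleven hV hab hNC ho (pow_mem hg _)
  have hVM : V ≤ M := le_normalizer
  -- the 3-part of `M`
  have h12 : 3 ^ 12 ∣ Nat.card M := by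
    obtain ⟨P, hP⟩ := (IsPGroup.of_card hV : IsPGroup 3 V).exists_le_sylow
    have hPc : Nat.card (P : Subgroup G) = 3 ^ 13 := by
      obtain ⟨k, hk⟩ := IsPGroup.iff_card.1 P.2
      have h1 := P.card_eq_multiplicity
      have h2 : k = 13 := by
        apply le_antisymm
        · by_contra hlt
          exact h14 ((pow_dvd_pow 3 (by omega)).trans (hk ▸ (P : Subgroup G).card_subgroup_dvd_card))
        · by_contra hlt
          have h3 := P.not_dvd_index
          have h4 := (P : Subgroup G).card_mul_index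
          rw [hk] at h4
          apply h3
          have h5 : 3 ^ k * 3 ∣ 3 ^ k * (P : Subgroup G).index := by
            rw [h4, ← pow_succ]
            exact (pow_dvd_pow 3 (by omega)).trans h13
          exact Nat.dvd_of_mul_dvd_mul_left (by positivity) h5
      rw [hk, h2]
    have hlt : V.subgroupOf (P : Subgroup G) < ⊤ := by
      rw [lt_top_iff_ne_top]
      intro h
      have h1 : (P : Subgroup G) ≤ V := subgroupOf_eq_top.1 h
      have h2 := card_dvd_of_le h1
      rw [hPc, hV] at h2
      exact absurd ((Nat.pow_dvd_pow_iff_le_right (by norm_num)).1 h2) (by norm_num)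
    have hnil : Group.IsNilpotent (P : Subgroup G) := P.2.isNilpotent
    have h1 := (Group.normalizerCondition_of_isNilpotent (G := (P : Subgroup G))) _ hlt
    set N1 : Subgroup (P : Subgroup G) := normalizer ((V.subgroupOf (P : Subgroup G) : Subgroup (P : Subgroup G)) : Set (P : Subgroup G)) with hN1
    have hV1 : Nat.card (V.subgroupOf (P : Subgroup G)) = 3 ^ 11 := by
      rw [Nat.card_congr (subgroupOfEquivOfLe hP).toEquiv, hV]
    obtain ⟨k, hk⟩ := IsPGroup.iff_card.1 (P.2.to_subgroup N1)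
    have h2 : 11 < k := by
      by_contra hle
      have h3 : Nat.card N1 ≤ Nat.card (V.subgroupOf (P : Subgroup G)) := by
        rw [hk, hV1]
        exact Nat.pow_le_pow_right (by norm_num) (by omega)
      exact absurd (Subgroup.eq_of_le_of_card_ge h1.le h3) h1.ne
    have h3 : Nat.card N1 ∣ Nat.card M := by
      have h4 : N1.map (P : Subgroup G).subtype ≤ M := by
        rintro _ ⟨g, hg, rfl⟩
        rw [hM, mem_normalizer_iff]
        intro v
        have hgP : ((P : Subgroup G).subtype g) ∈ (P : Subgroup G) := g.2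
        constructor
        · intro hv
          have h5 := (mem_normalizer_iff.1 hg ⟨v, hP hv⟩).1 (by rw [mem_subgroupOf]; exact hv)
          rw [mem_subgroupOf] at h5
          exact h5
        · intro hv
          have hvP : v ∈ (P : Subgroup G) := by
            have h6 := hP hv
            have h7 := mul_mem (mul_mem (inv_mem hgP) h6) hgP
            convert h7 using 1
            group
          have h5 := (mem_normalizer_iff.1 hg ⟨v, hvP⟩).2 (by rw [mem_subgroupOf]; exact hv)
          rw [mem_subgroupOf] at h5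
          exact h5
      have h5 := card_dvd_of_le h4
      rwa [Nat.card_congr (N1.equivMapOfInjective _ (P : Subgroup G).subtype_injective).toEquiv.symm] at h5
    exact ((pow_dvd_pow 3 h2).trans (hk ▸ dvd_refl _)).trans h3
  -- the Sylow 23-subgroup of `M`
  set y1 : M := ⟨y, hyV⟩ with hy1
  have hoy1 : orderOf y1 = 23 := by rw [← hy, hy1, Subgroup.orderOf_mk]
  have hdM : Nat.card M ∣ Nat.card G := M.card_subgroup_dvd_card
  have hYp : IsPGroup 23 (zpowers y1) := IsPGroup.of_card (n := 1) (by rw [Nat.card_zpowers, hoy1, pow_one])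
  have hYi : ¬ 23 ∣ (zpowers y1).index := by
    intro h
    apply h529
    refine dvd_trans ?_ hdM
    rw [← (zpowers y1).card_mul_index, Nat.card_zpowers, hoy1, pow_two]
    exact Nat.mul_dvd_mul_left 23 h
  let Y : Sylow 23 M := hYp.toSylow hYi
  have hYc : (Y : Subgroup M) = zpowers y1 := rfl
  have hle : normalizer ((Y : Subgroup M) : Set M) ≤ centralizer ((Y : Subgroup M) : Set M) := by
    intro g hg
    have hg1 : (g : G) ∈ normalizer ((zpowers y : Subgroup G) : Set G) := by
      have hmem : ∀ d : M, d ∈ normalizer ((Y : Subgroup M) : Set M) → ∀ z ∈ zpowers y, (d : G) * z * (d : G)⁻¹ ∈ zpowers y := by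
        intro d hd z hz
        obtain ⟨k, rfl⟩ := mem_zpowers_iff.1 hz
        have h1 : y1 ^ k ∈ (Y : Subgroup M) := by rw [hYc]; exact zpow_mem (mem_zpowers y1) k
        have h2 := (mem_normalizer_iff.1 hd (y1 ^ k)).1 h1
        rw [hYc] at h2
        obtain ⟨l, hl⟩ := mem_zpowers_iff.1 h2
        have h3 := congrArg Subtype.val hl
        refine mem_zpowers_iff.2 ⟨l, ?_⟩
        simpa using h3
      refine mem_normalizer_iff.2 fun z => ⟨hmem g hg z, fun h => ?_⟩
      have h2 := hmem g⁻¹ (inv_mem hg) _ h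
      rw [Subgroup.coe_inv, inv_inv] at h2
      convert h2 using 1
      group
    have h2 := mem_cent (hC y hy) (hN y hy) hg1 (h11 g g.2)
    rw [mem_centralizer_singleton_iff] at h2
    rw [hYc, mem_centralizer_iff]
    intro z hz
    obtain ⟨k, rfl⟩ := mem_zpowers_iff.1 (SetLike.mem_coe.1 hz)
    have h3 : Commute (g : M) y1 := Subtype.ext h2
    exact (h3.zpow_right k).eq.symm
  let K : Subgroup M := (MonoidHom.transferSylow Y hle).ker
  have hK : Subgroup.IsComplement' K (Y : Subgroup M) := MonoidHom.ker_transferSylow_isComplement' Y hle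
  have hKc : Nat.card K * 23 = Nat.card M := by
    have h1 := hK.card_mul_card
    rwa [show Nat.card (Y : Subgroup M) = 23 by rw [hYc, Nat.card_zpowers, hoy1]] at h1
  have hK23 : ¬ 23 ∣ Nat.card K := by
    intro h
    apply h529
    refine dvd_trans ?_ hdM
    rw [← hKc, pow_two]
    exact Nat.mul_dvd_mul_right h 23
  obtain ⟨S⟩ : Nonempty (Sylow 3 K) := inferInstance
  have hfr := Sylow.normalizer_sup_eq_top S
  set S1 : Subgroup M := (S : Subgroup K).map K.subtype with hS1
  have h23 : 23 ∣ Nat.card (normalizer (S1 : Set M)) := by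
    have h1 := relIndex_sup_right (normalizer (S1 : Set M)) K
    rw [hfr, relIndex_top_right] at h1
    have h2 : K.index = 23 := by
      have h3 := K.card_mul_index
      rw [← hKc] at h3
      exact Nat.eq_of_mul_eq_mul_left Nat.card_pos h3
    rw [← h2, h1]
    exact (K.subgroupOf (normalizer (S1 : Set M))).index_dvd_card
  obtain ⟨w, hw⟩ := exists_prime_orderOf_dvd_card' 23 h23
  have how : orderOf (((w : normalizer (S1 : Set M)) : M) : G) = 23 := by
    rw [Subgroup.orderOf_coe, Subgroup.orderOf_coe, hw]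
  set S2 : Subgroup G := S1.map M.subtype with hS2
  have hwS : (((w : normalizer (S1 : Set M)) : M) : G) ∈ normalizer (S2 : Set G) := by
    have hmem : ∀ d : M, d ∈ normalizer (S1 : Set M) → ∀ z ∈ S2, (d : G) * z * (d : G)⁻¹ ∈ S2 := by
      rintro d hd _ ⟨z, hz, rfl⟩
      exact ⟨d * z * d⁻¹, (mem_normalizer_iff.1 hd z).1 hz, rfl⟩
    refine mem_normalizer_iff.2 fun z => ⟨hmem _ w.2 z, fun h => ?_⟩
    have h2 := hmem _ (inv_mem w.2) _ h
    rw [Subgroup.coe_inv, inv_inv] at h2
    convert h2 using 1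
    group
  have hSc : Nat.card S2 = Nat.card (S : Subgroup K) := by
    rw [hS2, Nat.card_congr (S1.equivMapOfInjective _ M.subtype_injective).toEquiv.symm, hS1,
      Nat.card_congr ((S : Subgroup K).equivMapOfInjective _ K.subtype_injective).toEquiv.symm]
  obtain ⟨k, hk⟩ := IsPGroup.iff_card.1 S.2
  have hk12 : 12 ≤ k := by
    by_contra hlt
    have h1 := S.not_dvd_index
    have h2 := (S : Subgroup K).card_mul_index
    rw [hk] at h2
    apply h1
    have h3 : 3 ^ k * 3 ∣ 3 ^ k * (S : Subgroup K).index := by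
      rw [h2, ← pow_succ]
      refine (pow_dvd_pow 3 (show k + 1 ≤ 12 by omega)).trans ?_
      rw [← hKc] at h12
      exact (Nat.Coprime.dvd_mul_right (Nat.Coprime.pow_left 12 (by norm_num : Nat.Coprime 3 23))).1 h12
    exact Nat.dvd_of_mul_dvd_mul_left (by positivity) h3
  have hk13 : k ≤ 13 := by
    by_contra hlt
    apply h14
    refine (pow_dvd_pow 3 (show 14 ≤ k by omega)).trans ?_
    rw [← hk, ← hSc]
    exact S2.card_subgroup_dvd_card
  have h1 := pow_mod hk13 (card_mod23 how (hC _ how) (hSc.trans hk) hwS)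
  omega

end Cfsg.Agent.H25.S8
end
end

-- part: H911/S8/MIdx
section
prune_inst 0x400000
set_option linter.all false
open scoped Cfsg.Agent.FastGrp

/-!
# Subgroups of index 77 of the Mathieu group of degree 22 (S4908)

A subgroup of index 77 of `M22` is the stabiliser of a hexad (an octad through the two fixed points).
-/

set_option autoImplicit false

open scoped Pointwise

namespace Cfsg.Agent.H911.S8

open Cfsg MulAction Cfsg.Agent.H867.Max.Oct Cfsg.Agent.H867.Max.MTwentyTwo
open Cfsg.Agent.SporadicA.OctadFix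

/-- a permutation with `π ^ 5 = 1` fixes the points of an invariant set with less than five points -/
theorem fix_of_small {α : Type*} [DecidableEq α] {π : Equiv.Perm α} (h5 : π ^ 5 = 1) {U : Finset α}
    (hU : ∀ x ∈ U, π x ∈ U) (hc : U.card < 5) : ∀ x ∈ U, π x = x := by
  intro x hx
  have hp : Function.IsPeriodicPt π 5 x := by
    show (π : α → α)^[5] x = x
    rw [← Equiv.Perm.coe_pow, h5]; rfl
  have hd : Function.minimalPeriod π x ∣ 5 := hp.minimalPeriod_dvd
  rcases (Nat.dvd_prime (by norm_num)).1 hd with h | h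
  · exact Function.minimalPeriod_eq_one_iff_isFixedPt.1 h
  · exfalso
    have hin : ∀ n : ℕ, (π : α → α)^[n] x ∈ U := by
      intro n
      induction n with
      | zero => exact hx
      | succ n ih => rw [Function.iterate_succ_apply']; exact hU _ ih
    have hinj : Set.InjOn (fun n => (π : α → α)^[n] x) (Finset.range 5 : Set ℕ) := by
      have := Function.iterate_injOn_Iio_minimalPeriod (f := (π : α → α)) (x := x)
      rw [h] at this
      intro a ha b hb hab
      exact this (by simpa using ha) (by simpa using hb) hab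
    have h1 := Finset.card_le_card_of_injOn (s := Finset.range 5) (t := U) (fun n => (π : α → α)^[n] x)
      (fun n _ => hin n) hinj
    rw [Finset.card_range] at h1
    omega

/-- an element of `M24` with `π ^ 5 = 1` and five fixed points is trivial -/
theorem eq_one_of_five {π : Equiv.Perm GolayPt} (hπ : π ∈ M24) (h5 : π ^ 5 = 1) {s : Finset GolayPt}
    (hs : 5 ≤ s.card) (hf : ∀ x ∈ s, π x = x) : π = 1 := by
  obtain ⟨s5, hss, hc⟩ := Finset.exists_subset_card_eq hs
  obtain ⟨o, ⟨ho, hso⟩, huniq⟩ := Cfsg.Agent.S0363.result.2 s5 hc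
  have hfix : ∀ x ∈ s5, π x = x := fun x hx => hf x (hss hx)
  have ho' : π • o = o := by
    refine huniq _ ⟨smul_octad hπ ho, fun x hx => ?_⟩
    exact (mem_smul_of_fix (hfix x hx)).2 (hso hx)
  have hmem : ∀ x ∈ o, π x ∈ o := by
    intro x hx
    have : π x ∈ π • o := Finset.smul_mem_smul_finset hx
    rwa [ho'] at this
  have hU : ∀ x ∈ o \ s5, π x ∈ o \ s5 := by
    intro x hx
    rw [Finset.mem_sdiff] at hx ⊢
    refine ⟨hmem x hx.1, fun h => hx.2 ?_⟩
    have := hfix _ h
    rwa [π.injective this] at h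
  have hcU : (o \ s5).card < 5 := by
    rw [Finset.card_sdiff_of_subset hso, card8 ho, hc]; norm_num
  have hall : ∀ x ∈ o, π x = x := by
    intro x hx
    by_cases h : x ∈ s5
    · exact hfix x h
    · exact fix_of_small h5 hU hcU x (Finset.mem_sdiff.2 ⟨hx, h⟩)
  have h2 : π * π = 1 := fixOct_sq ho (mem_fixOct.2 ⟨hπ, hall⟩)
  calc π = π ^ 5 * ((π * π) * (π * π))⁻¹ := by group
    _ = 1 := by rw [h5, h2]; simp

/-- the stabiliser of a duad has index 231 -/
theorem duad_index {a b : GolayPt} (hab : a ≠ b) (ha : a ≠ none) (ha0 : a ≠ some 0) (hb : b ≠ none)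
    (hb0 : b ≠ some 0) : (stabilizer Spor.M22 ({a, b} : Finset GolayPt)).index = 231 := by
  obtain ⟨g, hg, g1, g2, g3, g4⟩ := map4 (a := none) (b := some 0) (c := a) (d := b)
    (a' := none) (b' := some 0) (c' := some 1) (d' := some 2) (by simp) (Ne.symm ha) (Ne.symm hb)
    (Ne.symm ha0) (Ne.symm hb0) hab (by simp) (by simp) (by simp) (by decide) (by decide) (by decide)
  have h1 : (mk22 g hg g1 g2) • ({a, b} : Finset GolayPt) = sd := by
    show g • ({a, b} : Finset GolayPt) = sd
    rw [Finset.smul_finset_insert, Finset.smul_finset_singleton]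
    show ({g a, g b} : Finset GolayPt) = sd
    rw [g3, g4]; rfl
  rw [← duad.2, index_stabilizer, index_stabilizer, ← h1, orbit_smul]

/-- **Subgroups of index 77 of `M22` are the stabilisers of the hexads.** -/
theorem idx77 (T : Subgroup Spor.M22) (h : T.index = 77) :
    ∃ o ∈ octads, none ∈ o ∧ some 0 ∈ o ∧ T = stabilizer Spor.M22 o := by
  classical
  have := fin_G
  -- an octad through the two points
  obtain ⟨o₁, ⟨ho₁, hs₁⟩, -⟩ := Cfsg.Agent.S0363.result.2
    ({none, some 0, some 1, some 2, some 3} : Finset GolayPt) (by decide)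
  have hn₁ : none ∈ o₁ := hs₁ (by simp only [_root_.Finset.mem_insert, _root_.reduceCtorEq, _root_.Finset.mem_singleton, _root_.or_self, _root_.or_false])
  have hz₁ : some 0 ∈ o₁ := hs₁ (by simp only [_root_.Finset.mem_insert, _root_.reduceCtorEq, _root_.Option.some.injEq, _root_.Finset.mem_singleton, _root_.true_or, _root_.or_true])
  -- its pointwise stabiliser
  let E : Subgroup Spor.M22 := (fixOct o₁).subgroupOf Spor.M22
  have hE : IsPGroup 2 E := by
    intro e
    refine ⟨1, ?_⟩
    have he : ((e : Spor.M22) : Equiv.Perm GolayPt) ∈ fixOct o₁ := e.2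
    have h2 := fixOct_sq ho₁ he
    rw [pow_one, pow_two]
    exact Subtype.ext (Subtype.ext h2)
  obtain ⟨q, hq⟩ := hE.nonempty_fixed_point_of_prime_not_dvd_card (Spor.M22 ⧸ T) (by
    rw [← Subgroup.index_eq_card, h]; norm_num)
  obtain ⟨g, rfl⟩ := QuotientGroup.mk_surjective q
  have hgE : ∀ e : Spor.M22, (e : Equiv.Perm GolayPt) ∈ fixOct o₁ → g⁻¹ * e * g ∈ T := by
    intro e he
    have h1 : (⟨e, he⟩ : E) • (g : Spor.M22 ⧸ T) = (g : Spor.M22 ⧸ T) := hq ⟨e, he⟩
    have h2 : ((e * g : Spor.M22) : Spor.M22 ⧸ T) = (g : Spor.M22 ⧸ T) := h1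
    have h3 := QuotientGroup.eq.1 h2.symm
    rwa [← mul_assoc] at h3
  -- a point outside
  obtain ⟨-, y, hy, -⟩ := exists_in_out (s := o₁) (F := ∅) (by rw [card8 ho₁]; decide)
    (by rw [card8 ho₁]; decide)
  set x' : GolayPt := ((g⁻¹ : Spor.M22) : Equiv.Perm GolayPt) y with hx'
  set o₂ : Finset GolayPt := ((g⁻¹ : Spor.M22) : Equiv.Perm GolayPt) • o₁ with ho₂d
  have ho₂ : o₂ ∈ octads := smul_octad (M24_of_22 g⁻¹) ho₁
  have hn₂ : none ∈ o₂ := (mem_smul_of_fix (none_of_22 g⁻¹)).2 hn₁
  have hz₂ : some 0 ∈ o₂ := (mem_smul_of_fix (zero_of_22 g⁻¹)).2 hz₁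
  have horb : ∀ z, z ∉ o₂ → z ∈ orbit T x' := by
    intro z hz
    have hgz : (g : Equiv.Perm GolayPt) z ∉ o₁ := by
      intro hc
      apply hz
      rw [ho₂d, Finset.mem_smul_finset]
      refine ⟨_, hc, ?_⟩
      show ((g⁻¹ * g : Spor.M22) : Equiv.Perm GolayPt) z = z
      rw [inv_mul_cancel]; rfl
    obtain ⟨e, ⟨he, hey⟩, -⟩ := existsUnique_fixOct ho₁ hy hgz
    obtain ⟨he1, he2⟩ := mem_fixOct.1 he
    let e' : Spor.M22 := mk22 e he1 (he2 _ hn₁) (he2 _ hz₁)
    refine ⟨⟨g⁻¹ * e' * g, hgE e' he⟩, ?_⟩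
    have hg1 : (g : Equiv.Perm GolayPt) x' = y := by
      show ((g * g⁻¹ : Spor.M22) : Equiv.Perm GolayPt) y = y
      rw [mul_inv_cancel]; rfl
    show ((g⁻¹ : Spor.M22) : Equiv.Perm GolayPt) (e ((g : Equiv.Perm GolayPt) x')) = z
    rw [hg1, hey]
    show ((g⁻¹ * g : Spor.M22) : Equiv.Perm GolayPt) z = z
    rw [inv_mul_cancel]; rfl
  -- the complement of the orbit
  set s : Finset GolayPt := Finset.univ.filter fun z => z ∉ orbit T x' with hs
  have mem_s : ∀ z, z ∈ s ↔ z ∉ orbit T x' := by intro z; rw [hs]; simp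
  have hso : s ⊆ o₂ := by
    intro z hz
    by_contra hc
    exact (mem_s z).1 hz (horb z hc)
  have hx'o : x' ∉ o₂ := by
    rw [ho₂d, Finset.mem_smul_finset]
    rintro ⟨w, hw, hwx⟩
    have : w = y := ((g⁻¹ : Spor.M22) : Equiv.Perm GolayPt).injective (hwx.trans hx')
    exact hy (this ▸ hw)
  have hinv : ∀ (t : T) z, z ∈ s → ((t : Spor.M22) : Equiv.Perm GolayPt) z ∈ s := by
    intro t z hz
    rw [mem_s] at hz ⊢
    intro hc
    apply hz
    have h1 := mem_orbit_of_mem_orbit (M := T) t⁻¹ hc
    have h2 : t⁻¹ • (((t : Spor.M22) : Equiv.Perm GolayPt) z) = z := inv_smul_smul t z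
    rwa [h2] at h1
  have hns : none ∈ s := by
    rw [mem_s]
    rintro ⟨t, ht⟩
    have h1 : ((t : Spor.M22) : Equiv.Perm GolayPt) x' = none := ht
    have h2 : x' = none := ((t : Spor.M22) : Equiv.Perm GolayPt).injective (h1.trans (none_of_22 _).symm)
    exact hx'o (h2 ▸ hn₂)
  have hzs : some 0 ∈ s := by
    rw [mem_s]
    rintro ⟨t, ht⟩
    have h1 : ((t : Spor.M22) : Equiv.Perm GolayPt) x' = some 0 := ht
    have h2 : x' = some 0 := ((t : Spor.M22) : Equiv.Perm GolayPt).injective (h1.trans (zero_of_22 _).symm)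
    exact hx'o (h2 ▸ hz₂)
  have hcard : (orbit T x').ncard + s.card = 24 := by
    have h1 : orbit T x' = ((Finset.univ.filter fun z => z ∈ orbit T x' : Finset GolayPt) : Set GolayPt) := by
      ext z; simp
    rw [h1, Set.ncard_coe_finset, hs, Finset.card_filter_add_card_filter_not]
    decide
  have hT : Nat.card T = 5760 := by
    have h1 := T.card_mul_index
    rw [h, card_G] at h1
    omega
  have hdvd : (orbit T x').ncard ∣ 5760 := by
    rw [← index_stabilizer, ← hT]
    exact Subgroup.index_dvd_card _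
  have hle : s.card ≤ 8 := by
    rw [← card8 ho₂]; exact Finset.card_le_card hso
  have h2s : ({none, some 0} : Finset GolayPt) ⊆ s := by
    intro z hz
    rw [Finset.mem_insert, Finset.mem_singleton] at hz
    rcases hz with rfl | rfl
    · exact hns
    · exact hzs
  have hge : 2 ≤ s.card := by
    have := Finset.card_le_card h2s
    rwa [Finset.card_pair n0] at this
  have hcases : s.card = 4 ∨ s.card = 6 ∨ s.card = 8 := by
    have h1 : (orbit T x').ncard = 24 - s.card := by omega
    rw [h1] at hdvd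
    generalize s.card = c at *
    interval_cases c <;> revert hdvd <;> decide
  rcases hcases with hc | hc | hc
  · -- a duad is invariant
    exfalso
    have hu : (s \ {none, some 0}).card = 2 := by
      rw [Finset.card_sdiff_of_subset h2s, hc, Finset.card_pair n0]
    obtain ⟨a, b, hab, habs⟩ := Finset.card_eq_two.1 hu
    have ha : a ∈ s \ {none, some 0} := by rw [habs]; simp
    have hb : b ∈ s \ {none, some 0} := by rw [habs]; simp
    rw [Finset.mem_sdiff, Finset.mem_insert, Finset.mem_singleton, not_or] at ha hb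
    have hidx := duad_index hab ha.2.1 ha.2.2 hb.2.1 hb.2.2
    have hle' : T ≤ stabilizer Spor.M22 ({a, b} : Finset GolayPt) := by
      intro t ht
      rw [mem_stabilizer_iff]
      refine Finset.eq_of_subset_of_card_le ?_ (by rw [Finset.card_smul_finset])
      intro z hz
      obtain ⟨w, hw, hwz⟩ := Finset.mem_smul_finset.1 hz
      have hwz' : (t : Equiv.Perm GolayPt) w = z := hwz
      rw [← habs, Finset.mem_sdiff, Finset.mem_insert, Finset.mem_singleton, not_or] at hw ⊢
      refine ⟨hwz' ▸ hinv ⟨t, ht⟩ w hw.1, ?_, ?_⟩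
      · rintro rfl
        exact hw.2.1 ((t : Equiv.Perm GolayPt).injective (hwz'.trans (none_of_22 _).symm))
      · rintro rfl
        exact hw.2.2 ((t : Equiv.Perm GolayPt).injective (hwz'.trans (zero_of_22 _).symm))
    have h1 := Subgroup.relIndex_mul_index hle'
    rw [hidx, h] at h1
    omega
  · -- an element of order five
    exfalso
    have : Fact (Nat.Prime 5) := ⟨by norm_num⟩
    obtain ⟨f, hf⟩ := exists_prime_orderOf_dvd_card' (G := T) 5 (by rw [hT]; norm_num)
    set π : Equiv.Perm GolayPt := ((f : Spor.M22) : Equiv.Perm GolayPt) with hπ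
    have h5 : π ^ 5 = 1 := by
      have h1 : f ^ 5 = 1 := by rw [← hf]; exact pow_orderOf_eq_one f
      have h2 := congrArg (fun t : T => ((t : Spor.M22) : Equiv.Perm GolayPt)) h1
      simpa only [_root_.SubmonoidClass.coe_pow, _root_.OneMemClass.coe_one] using h2
    have hU : ∀ x ∈ s \ {none, some 0}, π x ∈ s \ {none, some 0} := by
      intro x hx
      rw [Finset.mem_sdiff, Finset.mem_insert, Finset.mem_singleton, not_or] at hx ⊢
      refine ⟨hinv f x hx.1, fun hc => hx.2.1 ?_, fun hc => hx.2.2 ?_⟩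
      · exact π.injective (hc.trans (none_of_22 _).symm)
      · exact π.injective (hc.trans (zero_of_22 _).symm)
    have hcU : (s \ {none, some 0}).card < 5 := by
      rw [Finset.card_sdiff_of_subset h2s, hc, Finset.card_pair n0]; norm_num
    have hall : ∀ x ∈ s, π x = x := by
      intro x hx
      by_cases hx2 : x ∈ ({none, some 0} : Finset GolayPt)
      · rw [Finset.mem_insert, Finset.mem_singleton] at hx2
        rcases hx2 with rfl | rfl
        · exact none_of_22 _
        · exact zero_of_22 _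
      · exact fix_of_small h5 hU hcU x (Finset.mem_sdiff.2 ⟨hx, hx2⟩)
    have h1 : π = 1 := eq_one_of_five (M24_of_22 _) h5 (by omega) hall
    have h2 : f = 1 := Subtype.ext (Subtype.ext h1)
    rw [h2, orderOf_one] at hf
    norm_num at hf
  · -- the octad is invariant
    have hsE : s = o₂ := Finset.eq_of_subset_of_card_le hso (by rw [card8 ho₂, hc])
    refine ⟨o₂, ho₂, hn₂, hz₂, ?_⟩
    have hle' : T ≤ stabilizer Spor.M22 o₂ := by
      intro t ht
      rw [mem_stabilizer_iff]
      refine Finset.eq_of_subset_of_card_le ?_ (Finset.card_smul_finset t o₂).ge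
      intro z hz
      obtain ⟨w, hw, hwz⟩ := Finset.mem_smul_finset.1 hz
      have hwz' : (t : Equiv.Perm GolayPt) w = z := hwz
      rw [← hsE] at hw ⊢
      exact hwz' ▸ hinv ⟨t, ht⟩ w hw
    have h1 := Subgroup.relIndex_mul_index hle'
    rw [(hexad ho₂ hn₂ hz₂).2, h] at h1
    have h2 : T.relIndex (stabilizer Spor.M22 o₂) = 1 := by omega
    exact le_antisymm hle' (Subgroup.relIndex_eq_one.1 h2)

end Cfsg.Agent.H911.S8
end
end
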